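import Mathlib

/-!
# Two polynomials over `ℚ_l` with the same `l`-adic absolute values `|∏ F(ω_i)|` are equal

`eq_of_norm_prod_eq`: let `φ : ℚ_l → L` be an isometric embedding in a normed field, `P` and `Q` monic polynomials of
the same degree over `ℚ_l` which split over `L`, and suppose `‖∏_{ω root of P} F(ω)‖ = ‖∏_{η root of Q} F(η)‖` for
every polynomial `F` with integer coefficients. Then `P = Q`.
-/

set_option autoImplicit false

open Polynomial

namespace K519.LAdicPoly

variable {l : ℕ} [Fact l.Prime] {L : Type*} [NormedField L] (φ : ℚ_[l] →+* L)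

section density

variable (hφ : Isometry φ)

/-- The polynomial with given coefficients. -/
noncomputable def mkPoly {R : Type*} [CommRing R] (d : ℕ) (c : Fin d → R) : R[X] :=
  ∑ j : Fin d, C (c j) * X ^ (j : ℕ)

theorem eval_map_mkPoly {R S : Type*} [CommRing R] [CommRing S] (f : R →+* S) (d : ℕ) (c : Fin d → R) (x : S) :
    ((mkPoly d c).map f).eval x = ∑ j : Fin d, f (c j) * x ^ (j : ℕ) := by
  simp [mkPoly, Polynomial.map_sum, Polynomial.eval_finsetSum]

theorem exists_mkPoly {R : Type*} [CommRing R] (F : R[X]) : ∃ (d : ℕ) (c : Fin d → R), F = mkPoly d c := by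
  refine ⟨F.natDegree + 1, fun j => F.coeff j, ?_⟩
  rw [mkPoly, Fin.sum_univ_eq_sum_range (fun j => C (F.coeff j) * X ^ j)]
  exact F.as_sum_range_C_mul_X_pow

include hφ in
theorem continuous_prod (d : ℕ) (s : Multiset L) :
    Continuous fun c : Fin d → ℚ_[l] => ‖(s.map fun x => ((mkPoly d c).map φ).eval x).prod‖ := by
  apply Continuous.norm
  apply continuous_multiset_prod
  intro x _
  simp_rw [eval_map_mkPoly]
  have := hφ.continuous
  fun_prop

variable (s t : Multiset L) (hst : Multiset.card s = Multiset.card t)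
  (h : ∀ F : ℤ[X], ‖(s.map fun x => (F.map (Int.castRingHom L)).eval x).prod‖ =
    ‖(t.map fun x => (F.map (Int.castRingHom L)).eval x).prod‖)

include hφ hst h in
theorem eq_rat (F : ℚ[X]) : ‖(s.map fun x => (F.map (φ.comp (algebraMap ℚ ℚ_[l]))).eval x).prod‖ =
    ‖(t.map fun x => (F.map (φ.comp (algebraMap ℚ ℚ_[l]))).eval x).prod‖ := by
  obtain ⟨b, hbM, hF⟩ := IsLocalization.integerNormalization_spec (nonZeroDivisors ℤ) F
  set G := IsLocalization.integerNormalization (nonZeroDivisors ℤ) F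
  have hb : ((b : ℤ) : L) ≠ 0 := by
    have h1 : (((b : ℤ) : ℚ_[l])) ≠ 0 := by exact_mod_cast nonZeroDivisors.ne_zero hbM
    have h2 : φ ((b : ℤ) : ℚ_[l]) ≠ 0 := by
      intro h3
      exact h1 (hφ.injective (by rw [h3, map_zero]))
    rwa [map_intCast] at h2
  have key : ∀ x : L, (G.map (Int.castRingHom L)).eval x =
      ((b : ℤ) : L) * (F.map (φ.comp (algebraMap ℚ ℚ_[l]))).eval x := by
    intro x
    have h1 : G.map (Int.castRingHom L) = (G.map (algebraMap ℤ ℚ)).map (φ.comp (algebraMap ℚ ℚ_[l])) := by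
      rw [Polynomial.map_map]
      congr 1
      exact RingHom.ext_int _ _
    rw [h1, hF, zsmul_eq_mul, Polynomial.map_mul, Polynomial.map_intCast, Polynomial.eval_mul,
      Polynomial.eval_intCast]
  have h1 := h G
  simp_rw [key] at h1
  rw [Multiset.prod_map_mul, Multiset.prod_map_mul, Multiset.map_const', Multiset.map_const', Multiset.prod_replicate,
    Multiset.prod_replicate, hst, norm_mul, norm_mul] at h1
  exact mul_left_cancel₀ (norm_ne_zero_iff.mpr (pow_ne_zero _ hb)) h1

include hφ hst h in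
theorem eq_padic (F : ℚ_[l][X]) : ‖(s.map fun x => (F.map φ).eval x).prod‖ =
    ‖(t.map fun x => (F.map φ).eval x).prod‖ := by
  obtain ⟨d, c, rfl⟩ := exists_mkPoly F
  have hd : DenseRange (Pi.map (fun _ => ((↑) : ℚ → ℚ_[l])) : (Fin d → ℚ) → (Fin d → ℚ_[l])) :=
    DenseRange.piMap fun _ => Padic.denseRange_ratCast l
  have h1 := hd.equalizer (continuous_prod φ hφ d s) (continuous_prod φ hφ d t) (by
    funext c
    have h2 := eq_rat φ hφ s t hst h (mkPoly d c)
    simp only [Function.comp_apply, eval_map_mkPoly] at h2 ⊢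
    exact h2)
  exact congrFun h1 c

end density

open Filter Topology in
/-- **The lemma on `l`-adic absolute values.** -/
theorem eq_of_norm_prod_eq (hφ : Isometry φ) (P Q : ℚ_[l][X]) (hP : P.Monic) (hQ : Q.Monic)
    (hPs : (P.map φ).Splits) (hQs : (Q.map φ).Splits) (hdeg : P.natDegree = Q.natDegree)
    (h : ∀ F : ℤ[X], ‖((P.map φ).roots.map fun x => (F.map (Int.castRingHom L)).eval x).prod‖ =
      ‖((Q.map φ).roots.map fun x => (F.map (Int.castRingHom L)).eval x).prod‖) : P = Q := by
  classical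
  have hcP : Multiset.card (P.map φ).roots = P.natDegree := by
    rw [← hPs.natDegree_eq_card_roots, hP.natDegree_map]
  have hcQ : Multiset.card (Q.map φ).roots = Q.natDegree := by
    rw [← hQs.natDegree_eq_card_roots, hQ.natDegree_map]
  have h1 := eq_padic φ hφ _ _ (by rw [hcP, hcQ, hdeg]) h
  -- take out the greatest common divisor
  let G := gcd P Q
  have hG0 : G ≠ 0 := fun h0 => hP.ne_zero ((gcd_eq_zero_iff P Q).mp h0).1
  obtain ⟨P', hP'⟩ : G ∣ P := gcd_dvd_left P Q
  obtain ⟨Q', hQ'⟩ : G ∣ Q := gcd_dvd_right P Q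
  have hP'0 : P' ≠ 0 := by rintro rfl; exact hP.ne_zero (by rw [hP', mul_zero])
  have hQ'0 : Q' ≠ 0 := by rintro rfl; exact hQ.ne_zero (by rw [hQ', mul_zero])
  have hcop : IsCoprime P' Q' := by
    have h2 : IsUnit (gcd P' Q') := by
      have h3 : gcd P Q = normalize G * gcd P' Q' := by
        conv_lhs => rw [hP', hQ']
        exact gcd_mul_left _ _ _
      have h4 : normalize G = G := normalize_gcd P Q
      rw [h4] at h3
      have h5 : G * gcd P' Q' = G * 1 := by rw [mul_one, ← h3]
      rw [mul_left_cancel₀ hG0 h5]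
      exact isUnit_one
    exact (gcd_isUnit_iff P' Q').mp h2
  have hdeg' : P'.natDegree = Q'.natDegree := by
    rw [hP', hQ', natDegree_mul hG0 hP'0, natDegree_mul hG0 hQ'0] at hdeg
    omega
  have hmap0 : ∀ {R : ℚ_[l][X]}, R ≠ 0 → R.map φ ≠ 0 := fun hR => (Polynomial.map_ne_zero_iff φ.injective).mpr hR
  have hrP : (P.map φ).roots = (G.map φ).roots + (P'.map φ).roots := by
    conv_lhs => rw [hP', Polynomial.map_mul]
    exact roots_mul (mul_ne_zero (hmap0 hG0) (hmap0 hP'0))
  have hrQ : (Q.map φ).roots = (G.map φ).roots + (Q'.map φ).roots := by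
    conv_lhs => rw [hQ', Polynomial.map_mul]
    exact roots_mul (mul_ne_zero (hmap0 hG0) (hmap0 hQ'0))
  have hP's : (P'.map φ).Splits :=
    hPs.of_dvd (hmap0 hP.ne_zero) (Polynomial.map_dvd φ (hP'.symm ▸ Dvd.intro_left _ rfl))
  -- the key equality
  have h2 : ∀ F : ℚ_[l][X], (∀ x ∈ (G.map φ).roots, (F.map φ).eval x ≠ 0) →
      ‖((P'.map φ).roots.map fun x => (F.map φ).eval x).prod‖ = ‖((Q'.map φ).roots.map fun x => (F.map φ).eval x).prod‖ := by
    intro F hF
    have h3 := h1 F
    rw [hrP, hrQ, Multiset.map_add, Multiset.map_add, Multiset.prod_add, Multiset.prod_add, norm_mul, norm_mul] at h3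
    refine mul_left_cancel₀ (norm_ne_zero_iff.mpr ?_) h3
    rw [Ne, Multiset.prod_eq_zero_iff, Multiset.mem_map]
    rintro ⟨x, hx, hx0⟩
    exact hF x hx hx0
  rcases Nat.eq_zero_or_pos P'.natDegree with h0 | hpos
  · rw [h0] at hdeg'
    obtain ⟨a, rfl⟩ := natDegree_eq_zero.mp h0
    obtain ⟨b, rfl⟩ := natDegree_eq_zero.mp hdeg'.symm
    have h3 : G.leadingCoeff * a = 1 := by
      have := congrArg leadingCoeff hP'
      rwa [hP.leadingCoeff, leadingCoeff_mul, leadingCoeff_C, eq_comm] at this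
    have h4 : G.leadingCoeff * b = 1 := by
      have := congrArg leadingCoeff hQ'
      rwa [hQ.leadingCoeff, leadingCoeff_mul, leadingCoeff_C, eq_comm] at this
    have h5 : a = b := mul_left_cancel₀ (leadingCoeff_ne_zero.mpr hG0) (h3.trans h4.symm)
    rw [hP', hQ', h5]
  exfalso
  -- `F = P' + c` with `c` small
  let S : Set ℚ_[l] := {c | ∃ x ∈ (G.map φ).roots, (P'.map φ).eval x + φ c = 0}
  have hS : S.Finite := by
    have h4 : S ⊆ φ ⁻¹' (((G.map φ).roots.toFinset.image fun x => - (P'.map φ).eval x : Finset L) : Set L) := by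
      rintro c ⟨x, hx, hc⟩
      simp only [Set.mem_preimage, Finset.coe_image, Set.mem_image, Finset.mem_coe, Multiset.mem_toFinset]
      exact ⟨x, hx, by linear_combination -hc⟩
    exact ((Finset.finite_toSet _).preimage φ.injective.injOn).subset h4
  have h5 : ∀ᶠ c in 𝓝[≠] (0 : ℚ_[l]), c ∉ S := by
    have h6 : ∀ᶠ c in 𝓝 (0 : ℚ_[l]), c ∉ S \ {0} :=
      (hS.subset Set.sdiff_subset).isClosed.isOpen_compl.mem_nhds (by simp)
    filter_upwards [nhdsWithin_le_nhds h6, self_mem_nhdsWithin] with c hc hc0 hcS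
    exact hc ⟨hcS, hc0⟩
  have h6 : ∀ᶠ c in 𝓝[≠] (0 : ℚ_[l]), ‖c‖ ^ P'.natDegree =
      ‖((Q'.map φ).roots.map fun x => (P'.map φ).eval x + φ c).prod‖ := by
    filter_upwards [h5] with c hc
    have h7 := h2 (P' + C c) (fun x hx h8 => hc ⟨x, hx, by simpa using h8⟩)
    have h8 : (P'.map φ).roots.map (fun x => ((P' + C c).map φ).eval x) = (P'.map φ).roots.map fun _ => φ c := by
      refine Multiset.map_congr rfl fun x hx => ?_
      have h9 : (P'.map φ).eval x = 0 := (mem_roots'.mp hx).2
      rw [Polynomial.map_add, Polynomial.eval_add, h9, Polynomial.map_C, Polynomial.eval_C, zero_add]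
    rw [h8, Multiset.map_const', Multiset.prod_replicate, norm_pow, ← hP's.natDegree_eq_card_roots,
      natDegree_map] at h7
    have h9 : ‖φ c‖ = ‖c‖ := by
      have := hφ.dist_eq c 0
      rwa [map_zero, dist_zero_right, dist_zero_right] at this
    rw [h9] at h7
    rw [h7]
    simp only [Polynomial.map_add, Polynomial.eval_add, Polynomial.map_C, Polynomial.eval_C]
  have h10 : Tendsto (fun c : ℚ_[l] => ‖c‖ ^ P'.natDegree) (𝓝[≠] 0) (𝓝 0) := by
    have h11 : Continuous fun c : ℚ_[l] => ‖c‖ ^ P'.natDegree := by fun_prop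
    have h12 := h11.tendsto 0
    rw [norm_zero, zero_pow hpos.ne'] at h12
    exact h12.mono_left nhdsWithin_le_nhds
  have h13 : Tendsto (fun c : ℚ_[l] => ‖((Q'.map φ).roots.map fun x => (P'.map φ).eval x + φ c).prod‖) (𝓝[≠] 0)
      (𝓝 ‖((Q'.map φ).roots.map fun x => (P'.map φ).eval x).prod‖) := by
    have h11 : Continuous fun c : ℚ_[l] => ‖((Q'.map φ).roots.map fun x => (P'.map φ).eval x + φ c).prod‖ := by
      apply Continuous.norm
      apply continuous_multiset_prod
      intro x _
      have := hφ.continuous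
      fun_prop
    have h12 := h11.tendsto 0
    simp only [map_zero, add_zero] at h12
    exact h12.mono_left nhdsWithin_le_nhds
  have h14 := tendsto_nhds_unique (h10.congr' h6) h13
  have h15 := norm_eq_zero.mp h14.symm
  rw [Multiset.prod_eq_zero_iff, Multiset.mem_map] at h15
  obtain ⟨x, hx, hx0⟩ := h15
  have h16 : (Q'.map φ).eval x = 0 := (mem_roots'.mp hx).2
  obtain ⟨a, b, hab⟩ := hcop
  have h17 := congrArg (fun R => (R.map φ).eval x) hab
  simp only [Polynomial.map_add, Polynomial.map_mul, Polynomial.eval_add, Polynomial.eval_mul, hx0, h16, mul_zero,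
    add_zero, Polynomial.map_one, Polynomial.eval_one] at h17
  exact zero_ne_one h17

/-- The same with an absolute value and families of roots (the statement of S12031). -/
theorem eq_of_absoluteValue {K : Type*} [Field K] [Algebra ℚ_[l] K]
    (v : AbsoluteValue K ℝ) (hv : ∀ x : ℚ_[l], v (algebraMap ℚ_[l] K x) = ‖x‖)
    (r : ℕ) (P Q : Polynomial ℚ_[l]) (ω η : Fin r → K)
    (hP : P.map (algebraMap ℚ_[l] K) = ∏ i, (Polynomial.X - Polynomial.C (ω i)))
    (hQ : Q.map (algebraMap ℚ_[l] K) = ∏ j, (Polynomial.X - Polynomial.C (η j)))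
    (h : ∀ F : Polynomial ℤ, v (∏ i, Polynomial.aeval (ω i) F) = v (∏ j, Polynomial.aeval (η j) F)) :
    P = Q := by
  let e : K ≃+* WithAbs v := (WithAbs.equiv v).symm
  have he : ∀ x : K, ‖e x‖ = v x := fun x => rfl
  let φ : ℚ_[l] →+* WithAbs v := e.toRingHom.comp (algebraMap ℚ_[l] K)
  have hφ : Isometry φ := AddMonoidHomClass.isometry_of_norm φ fun x => hv x
  have key : ∀ (R : ℚ_[l][X]) (ρ : Fin r → K), R.map (algebraMap ℚ_[l] K) = ∏ i, (X - C (ρ i)) →
      R.Monic ∧ R.natDegree = r ∧ R.map φ = ∏ i, (X - C (e (ρ i))) ∧ (R.map φ).Splits ∧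
        ∀ F : ℤ[X], ‖((R.map φ).roots.map fun x => (F.map (Int.castRingHom (WithAbs v))).eval x).prod‖ =
          v (∏ i, aeval (ρ i) F) := by
    intro R ρ hR
    have h1 : R.map φ = ∏ i, (X - C (e (ρ i))) := by
      have h2 := congrArg (Polynomial.map e.toRingHom) hR
      rw [Polynomial.map_map] at h2
      rw [show R.map φ = R.map (e.toRingHom.comp (algebraMap ℚ_[l] K)) from rfl, h2, Polynomial.map_prod]
      refine Finset.prod_congr rfl fun i _ => ?_
      rw [Polynomial.map_sub, Polynomial.map_X, Polynomial.map_C]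
      rfl
    have hm : R.Monic := by
      apply Polynomial.monic_of_injective φ.injective
      rw [h1]
      exact monic_prod_X_sub_C _ _
    refine ⟨hm, ?_, h1, ?_, ?_⟩
    · rw [← hm.natDegree_map φ, h1, natDegree_finsetProd_X_sub_C_eq_card, Finset.card_univ, Fintype.card_fin]
    · rw [h1]
      exact Splits.prod fun i _ => Splits.X_sub_C _
    · intro F
      have h2 : (R.map φ).roots = Finset.univ.val.map fun i => e (ρ i) := by
        rw [h1, Finset.prod_eq_multiset_prod]
        conv_rhs => rw [← roots_multiset_prod_X_sub_C (Finset.univ.val.map fun i => e (ρ i)), Multiset.map_map]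
        rfl
      rw [h2, Multiset.map_map, ← he, map_prod]
      congr 2
      refine Multiset.map_congr rfl fun i _ => ?_
      rw [Function.comp_apply, Polynomial.eval_map, Polynomial.aeval_def]
      exact Eq.trans (by congr 1) (Polynomial.hom_eval₂ F (algebraMap ℤ K) e.toRingHom (ρ i)).symm
  obtain ⟨p1, p2, p3, p4, p5⟩ := key P ω hP
  obtain ⟨q1, q2, q3, q4, q5⟩ := key Q η hQ
  exact eq_of_norm_prod_eq φ hφ P Q p1 q1 p4 q4 (p2.trans q2.symm) fun F => by rw [p5, q5, h]

end K519.LAdicPoly
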