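import Groth.Agent.AbVar.K519.DegAlg
import Groth.Agent.AbVar.K519.LAdicPoly

/-!
# The characteristic polynomial of an `l`-adic representation with `|det (T f)| = |D f|`

* `monic_natDegree`: the polynomial `P` with `P(n) = D(f - n)` is monic of degree `d`.
* `charpoly_eq`: it is the characteristic polynomial of `T f`.
-/

set_option autoImplicit false

open Polynomial

namespace K519.CharAlg

/-- the polynomial `∑ p_i (-1)^i X^(n-i)` -/
theorem exists_rev (P : ℚ[X]) (n : ℕ) (hn : P.natDegree ≤ n) : ∃ Q : ℚ[X], Q.eval 0 = (-1) ^ n * P.coeff n ∧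
    ∀ t : ℚ, t ≠ 0 → Q.eval t = t ^ n * P.eval (-t⁻¹) := by
  refine ⟨∑ i ∈ Finset.range (n + 1), C ((-1) ^ i * P.coeff i) * X ^ (n - i), ?_, ?_⟩
  · rw [eval_finsetSum, Finset.sum_eq_single n]
    · simp
    · intro i hi hin
      have : n - i ≠ 0 := by have := Finset.mem_range.mp hi; omega
      simp [this]
    · intro h; exact absurd (Finset.mem_range.mpr (Nat.lt_succ_self n)) h
  · intro t ht
    rw [eval_finsetSum, eval_eq_sum_range' (Nat.lt_succ_of_le hn), Finset.mul_sum]
    refine Finset.sum_congr rfl fun i hi => ?_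
    have hi' : i ≤ n := Nat.lt_succ_iff.mp (Finset.mem_range.mp hi)
    rw [eval_mul, eval_C, eval_pow, eval_X]
    have h1 : t ^ n = t ^ (n - i) * t ^ i := by rw [← pow_add, Nat.sub_add_cancel hi']
    have h2 : t ^ i ≠ 0 := pow_ne_zero _ ht
    have h3 : (-t⁻¹) ^ i = (-1) ^ i * (t ^ i)⁻¹ := by rw [neg_pow, inv_pow]
    rw [h1, h3]
    field_simp

theorem det_aeval {n : Type*} [Fintype n] [DecidableEq n] {K : Type*} [Field K] [IsAlgClosed K] (M : Matrix n n K)
    (F : K[X]) : (aeval M F).det = (M.charpoly.roots.map fun x => F.eval x).prod := by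
  have hM : (M.charpoly).Splits := IsAlgClosed.splits _
  have hMr : M.charpoly = (M.charpoly.roots.map fun a => X - C a).prod := by
    conv_lhs => rw [hM.eq_prod_roots]
    rw [M.charpoly_monic.leadingCoeff, C_1, one_mul]
  have hcard : Multiset.card M.charpoly.roots = Fintype.card n := by
    rw [← hM.natDegree_eq_card_roots, Matrix.charpoly_natDegree_eq_dim]
  have key : ∀ z : K, (aeval M (X - C z)).det = (M.charpoly.roots.map fun x => x - z).prod := by
    intro z
    have h1 : aeval M (X - C z) = - (Matrix.scalar n z - M) := by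
      rw [map_sub, aeval_X, aeval_C, Matrix.algebraMap_eq_diagonal]
      simp [Matrix.scalar, Matrix.diagonal]
    rw [h1, Matrix.det_neg, ← Matrix.eval_charpoly]
    conv_lhs => rw [hMr]
    rw [eval_multiset_prod, Multiset.map_map, ← hcard]
    have h2 : M.charpoly.roots.map (fun x => x - z) =
        M.charpoly.roots.map (fun x => (-1) * ((Polynomial.eval z ∘ fun a => X - C a) x)) := by
      refine Multiset.map_congr rfl fun x _ => ?_
      simp
    rw [h2, Multiset.prod_map_mul, Multiset.map_const', Multiset.prod_replicate]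
  have hF : F.Splits := IsAlgClosed.splits F
  rw [hF.eq_prod_roots]
  have h3 : ∀ s : Multiset K, (aeval M (s.map fun a => X - C a).prod).det =
      (M.charpoly.roots.map fun x => ((s.map fun a => X - C a).prod : K[X]).eval x).prod := by
    intro s
    induction s using Multiset.induction with
    | empty => simp
    | cons a s ih =>
      rw [Multiset.map_cons, Multiset.prod_cons, map_mul, Matrix.det_mul, ih, key]
      simp_rw [eval_mul]
      rw [Multiset.prod_map_mul]
      simp
  rw [map_mul, Matrix.det_mul, h3, aeval_C, Matrix.algebraMap_eq_diagonal, Matrix.det_diagonal]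
  simp_rw [eval_mul, eval_C]
  rw [Multiset.prod_map_mul, Multiset.map_const', Multiset.prod_replicate, hcard]
  simp

section

variable {E : Type*} [Ring E] (D : E → ℚ)
variable (hmul : ∀ x y : E, D (x * y) = D x * D y) (d : ℕ) (hint : ∀ n : ℤ, D (n : E) = (n : ℚ) ^ d)
  (hpoly : ∀ (m : ℕ) (f : Fin m → E), ∃ G : MvPolynomial (Fin m) ℚ, ∀ a : Fin m → ℤ,
    D (∑ i, a i • f i) = MvPolynomial.eval (fun i => (a i : ℚ)) G)

include hmul hint hpoly in
theorem monic_natDegree (hd : Even d) (f : E) (P : ℚ[X]) (hP : ∀ n : ℤ, D (f - n) = P.eval (n : ℚ)) :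
    P.Monic ∧ P.natDegree = d := by
  obtain ⟨G, hG1, hG2⟩ := DegAlg.exists_key D hmul d hint hpoly f P hP 1
  -- the polynomial `t ↦ G(1, t)`
  have h1 : ∃ g : ℚ[X], g.eval 0 = 1 ∧ ∀ t : ℚ, t ≠ 0 → g.eval t = t ^ d * P.eval (-t⁻¹) := by
    refine ⟨MvPolynomial.aeval (fun i : Fin 2 => if i = 0 then (1 : ℚ[X]) else X) G, ?_, ?_⟩
    · have h2 := hG1 1 (by simp)
      rw [map_one, DegAlg.D_one D d hint] at h2
      rw [← Polynomial.coe_aeval_eq_eval, MvPolynomial.comp_aeval_apply, h2, ← MvPolynomial.coe_aeval_eq_eval]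
      change MvPolynomial.aeval _ G = MvPolynomial.aeval _ G
      congr 2
      funext i
      fin_cases i
      · simp
      · simp [Polynomial.coeff_one]
    · intro t ht
      have h2 := hG2 (R := ℚ) (fun o => o.elim t fun _ => -t⁻¹)
      simp only [Option.elim, Finset.univ_unique, Finset.prod_singleton] at h2
      rw [Polynomial.coe_aeval_eq_eval] at h2
      rw [← h2]
      rw [← Polynomial.coe_aeval_eq_eval]
      rw [MvPolynomial.comp_aeval_apply]
      congr 2
      funext i
      fin_cases i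
      · simp [DegAlg.spec, ht]
      · simp [DegAlg.spec]
  obtain ⟨g, hg0, hg⟩ := h1
  have hle : P.natDegree ≤ d := by
    by_contra hlt
    rw [not_le] at hlt
    obtain ⟨Q, hQ0, hQ⟩ := exists_rev P P.natDegree le_rfl
    have h2 : Q = X ^ (P.natDegree - d) * g := by
      apply Polynomial.eq_of_infinite_eval_eq
      refine Set.Infinite.mono (s := {0}ᶜ) ?_ (Set.Finite.infinite_compl (Set.finite_singleton 0))
      intro t ht
      simp only [Set.mem_ofPred_eq, eval_mul, eval_pow, eval_X]
      rw [hQ t ht, hg t ht, ← mul_assoc, ← pow_add, Nat.sub_add_cancel hlt.le]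
    rw [h2] at hQ0
    have h3 : P.natDegree - d ≠ 0 := by omega
    simp only [eval_mul, eval_pow, eval_X, zero_pow h3, zero_mul] at hQ0
    have h4 : P.leadingCoeff = 0 := by
      rcases mul_eq_zero.mp hQ0.symm with h5 | h5
      · exact absurd h5 (by simp)
      · exact h5
    rw [leadingCoeff_eq_zero] at h4
    rw [h4, natDegree_zero] at hlt
    omega
  obtain ⟨Q, hQ0, hQ⟩ := exists_rev P d hle
  have h2 : Q = g := by
    apply Polynomial.eq_of_infinite_eval_eq
    refine Set.Infinite.mono (s := {0}ᶜ) ?_ (Set.Finite.infinite_compl (Set.finite_singleton 0))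
    intro t ht
    simp only [Set.mem_ofPred_eq]
    rw [hQ t ht, hg t ht]
  rw [h2, hg0, hd.neg_one_pow, one_mul] at hQ0
  have h3 : P.natDegree = d := le_antisymm hle (le_natDegree_of_ne_zero (by rw [← hQ0]; exact one_ne_zero))
  exact ⟨by rw [Monic, leadingCoeff, h3, ← hQ0], h3⟩

include hmul hint hpoly in
theorem charpoly_eq_aux (hd : Even d) (l : ℕ) [Fact l.Prime] {M : Type*} [AddCommGroup M] [Module ℤ_[l] M]
    [Module.Free ℤ_[l] M] [Module.Finite ℤ_[l] M] (hM : Module.finrank ℤ_[l] M = d)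
    (T : E →+* Module.End ℤ_[l] M)
    (hval : ∀ g : E, ‖((D g : ℚ) : ℚ_[l])‖ = ‖((LinearMap.det (T g) : ℤ_[l]) : ℚ_[l])‖)
    (f : E) (P : ℚ[X]) (hP : ∀ n : ℤ, D (f - n) = P.eval (n : ℚ))
    {L : Type*} [NormedField L] [IsAlgClosed L] [CharZero L] (φ : ℚ_[l] →+* L) (hφ : Isometry φ) :
    P.map (algebraMap ℚ ℚ_[l]) = (T f).charpoly.map (algebraMap ℤ_[l] ℚ_[l]) := by
  classical
  obtain ⟨hPm, hPd⟩ := monic_natDegree D hmul d hint hpoly hd f P hP
  let b := Module.Free.chooseBasis ℤ_[l] M
  let ψ : ℤ_[l] →+* L := φ.comp (algebraMap ℤ_[l] ℚ_[l])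
  let mat := LinearMap.toMatrixAlgEquiv b
  have hQd : (T f).charpoly.natDegree = d := by rw [LinearMap.charpoly_natDegree, hM]
  apply LAdicPoly.eq_of_norm_prod_eq φ hφ
  · exact hPm.map _
  · exact ((T f).charpoly_monic).map _
  · exact IsAlgClosed.splits _
  · exact IsAlgClosed.splits _
  · rw [hPm.natDegree_map, ((T f).charpoly_monic).natDegree_map, hPd, hQd]
  · intro F
    -- the side of `P`
    have e1 : (P.map (algebraMap ℚ ℚ_[l])).map φ = P.map (algebraMap ℚ L) := by
      rw [Polynomial.map_map]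
      congr 1
      exact RingHom.ext_rat _ _
    have hs : (P.map (algebraMap ℚ L)).Splits := IsAlgClosed.splits _
    have hcard : Multiset.card (P.map (algebraMap ℚ L)).roots = d := by
      rw [← hs.natDegree_eq_card_roots, hPm.natDegree_map, hPd]
    obtain ⟨ω, hω⟩ : ∃ ω : Fin d → L, (P.map (algebraMap ℚ L)).roots = Finset.univ.val.map ω := by
      have h1 : ∃ L' : List L, (L' : Multiset L) = (P.map (algebraMap ℚ L)).roots ∧ L'.length = d := by
        refine ⟨(P.map (algebraMap ℚ L)).roots.toList, Multiset.coe_toList _, ?_⟩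
        rw [Multiset.length_toList, hcard]
      obtain ⟨L', hL1, hL2⟩ := h1
      refine ⟨fun i => L'.get (i.cast hL2.symm), ?_⟩
      rw [← hL1, Fin.univ_val_map]
      congr 1
      apply List.ext_get
      · simp [hL2]
      · intro n h1 h2; simp
    have hω' : P.map (algebraMap ℚ L) = ∏ i, (X - C (ω i)) := by
      conv_lhs => rw [hs.eq_prod_roots]
      rw [(hPm.map _).leadingCoeff, C_1, one_mul, hω, Multiset.map_map]
      rfl
    have e2 := DegAlg.eq_prod D hmul d hint hpoly hd f P hP ω hω' F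
    rw [e1, hω, Multiset.map_map]
    have e3 : (Multiset.map ((fun x => eval x (Polynomial.map (Int.castRingHom L) F)) ∘ ω)
        Finset.univ.val).prod = ∏ i, aeval (ω i) F := by
      refine Finset.prod_congr rfl fun i _ => ?_
      rw [Function.comp_apply, Polynomial.eval_map, Polynomial.aeval_def]
      rfl
    rw [e3, ← e2]
    -- the side of `T f`
    have e4 : ((T f).charpoly.map (algebraMap ℤ_[l] ℚ_[l])).map φ = (ψ.mapMatrix (mat (T f))).charpoly := by
      rw [Polynomial.map_map, ← LinearMap.charpoly_toMatrix (T f) b]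
      exact (Matrix.charpoly_map (mat (T f)) ψ).symm
    have e5 := det_aeval (ψ.mapMatrix (mat (T f))) (F.map (Int.castRingHom L))
    rw [e4, ← e5]
    have e6 : aeval (ψ.mapMatrix (mat (T f))) (F.map (Int.castRingHom L)) =
        ψ.mapMatrix (mat (T (aeval f F))) := by
      have h1 : aeval (ψ.mapMatrix (mat (T f))) (F.map (Int.castRingHom L)) =
          aeval (ψ.mapMatrix (mat (T f))) F := by
        rw [Polynomial.aeval_def, Polynomial.aeval_def, Polynomial.eval₂_map]
        congr 1
      rw [h1]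
      let mat' : Module.End ℤ_[l] M →+* Matrix (Module.Free.ChooseBasisIndex ℤ_[l] M)
        (Module.Free.ChooseBasisIndex ℤ_[l] M) ℤ_[l] := mat.toAlgHom.toRingHom
      let Ψ : E →+* Matrix _ _ L := (ψ.mapMatrix.comp mat').comp T
      have h2 : Ψ (aeval f F) = aeval (Ψ f) F := by
        rw [Polynomial.aeval_def, Polynomial.hom_eval₂, Polynomial.aeval_def]
        congr 1
        exact RingHom.ext_int _ _
      exact h2.symm
    have e7 : (ψ.mapMatrix (mat (T (aeval f F)))).det = φ (((LinearMap.det (T (aeval f F)) : ℤ_[l]) : ℚ_[l])) := by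
      rw [← RingHom.map_det]
      change φ (((mat (T (aeval f F))).det : ℤ_[l]) : ℚ_[l]) = _
      rw [← LinearMap.det_toMatrix b]
      rfl
    have hnorm : ∀ x : ℚ_[l], ‖φ x‖ = ‖x‖ := fun x => by
      have := hφ.dist_eq x 0
      rwa [map_zero, dist_zero_right, dist_zero_right] at this
    rw [e6, e7, hnorm, ← hval, ← hnorm, map_ratCast]

include hmul hint hpoly in
/-- **`P` is the characteristic polynomial of `T f`.** -/
theorem charpoly_eq (hd : Even d) (l : ℕ) [Fact l.Prime] {M : Type*} [AddCommGroup M] [Module ℤ_[l] M]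
    [Module.Free ℤ_[l] M] [Module.Finite ℤ_[l] M] (hM : Module.finrank ℤ_[l] M = d)
    (T : E →+* Module.End ℤ_[l] M)
    (hval : ∀ g : E, ‖((D g : ℚ) : ℚ_[l])‖ = ‖((LinearMap.det (T g) : ℤ_[l]) : ℚ_[l])‖)
    (f : E) (P : ℚ[X]) (hP : ∀ n : ℤ, D (f - n) = P.eval (n : ℚ)) :
    P.map (algebraMap ℚ ℚ_[l]) = (T f).charpoly.map (algebraMap ℤ_[l] ℚ_[l]) :=
  charpoly_eq_aux D hmul d hint hpoly hd l hM T hval f P hP (algebraMap ℚ_[l] (PadicAlgCl l))
    (algebraMap_isometry ℚ_[l] (PadicAlgCl l))

end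

end K519.CharAlg
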