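import Groth.Agent.AbVar.K519.DegAlg
import Mathlib.NumberTheory.Padics.Complex

/-!
# Integrality of the characteristic polynomial

If moreover `D` takes integral values then the polynomial `P` with `P(n) = D(f - n)` has integral coefficients.
-/

set_option autoImplicit false

open Polynomial

namespace K519.DegInt

section

variable {L : Type*} [NormedField L] [IsUltrametricDist L]

theorem norm_int_le_one (n : ℤ) : ‖(n : L)‖ ≤ 1 := IsUltrametricDist.norm_intCast_le_one L n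

theorem norm_sub_le (x y : L) : ‖x - y‖ ≤ max ‖x‖ ‖y‖ := by
  rw [sub_eq_add_neg, ← norm_neg y]
  exact IsUltrametricDist.norm_add_le_max _ _

/-- The pigeonhole argument. -/
theorem exists_far (d : ℕ) (z : Fin d → L) : ∃ n : ℕ, ∀ i, ‖((d.factorial : ℕ) : L)‖ ≤ ‖z i - (n : L)‖ := by
  by_contra! hc
  choose i hi using hc
  have hninj : ¬ Function.Injective (fun n : Fin (d + 1) => i n) := by
    intro h
    have := Fintype.card_le_of_injective _ h
    simp at this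
  rw [Function.Injective] at hninj
  push Not at hninj
  obtain ⟨n, m, hnm, hne⟩ := hninj
  wlog hlt : (m : ℕ) < n generalizing n m
  · refine this m n hnm.symm hne.symm ?_
    have : (n : ℕ) ≠ m := fun h => hne (Fin.ext h)
    omega
  have h1 : ‖((n : ℕ) : L) - ((m : ℕ) : L)‖ < ‖((d.factorial : ℕ) : L)‖ := by
    have h2 : ((n : ℕ) : L) - ((m : ℕ) : L) = (z (i n) - (m : ℕ)) - (z (i n) - (n : ℕ)) := by ring
    rw [h2]
    refine (norm_sub_le _ _).trans_lt (max_lt ?_ (hi n))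
    have h3 := hi m
    rwa [← hnm] at h3
  have h4 : ((n : ℕ) - (m : ℕ)) ∣ d.factorial := Nat.dvd_factorial (by omega) (by omega)
  obtain ⟨c, hc⟩ := h4
  have h5 : ((d.factorial : ℕ) : L) = (((n : ℕ) : L) - ((m : ℕ) : L)) * (c : L) := by
    rw [hc, Nat.cast_mul, Nat.cast_sub hlt.le]
  rw [h5, norm_mul] at h1
  have h6 : ‖(c : L)‖ ≤ 1 := by
    have := norm_int_le_one (L := L) c
    simpa using this
  have h7 : ‖((n : ℕ) : L) - ((m : ℕ) : L)‖ * ‖(c : L)‖ ≤ ‖((n : ℕ) : L) - ((m : ℕ) : L)‖ * 1 :=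
    mul_le_mul_of_nonneg_left h6 (norm_nonneg _)
  rw [mul_one] at h7
  linarith

/-- Roots of `P` are integral. -/
theorem norm_le_one [CharZero L] (d : ℕ) (ω : Fin d → L)
    (h : ∀ (k : ℕ) (n : ℤ), 1 ≤ k → ‖∏ i, (ω i ^ k - (n : L))‖ ≤ 1) (i : Fin d) : ‖ω i‖ ≤ 1 := by
  by_contra hlt
  rw [not_le] at hlt
  set δ := ‖((d.factorial : ℕ) : L)‖ with hδ
  have hδ0 : 0 < δ := norm_pos_iff.mpr (Nat.cast_ne_zero.mpr (Nat.factorial_ne_zero d))
  have key : ∀ k : ℕ, 1 ≤ k → ‖ω i‖ ^ k * δ ^ (d - 1) ≤ 1 := by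
    intro k hk
    obtain ⟨n, hn⟩ := exists_far d (fun i => ω i ^ k)
    have h1 := h k n hk
    rw [norm_prod, ← Finset.mul_prod_erase _ _ (Finset.mem_univ i)] at h1
    have h2 : ‖ω i ^ k - ((n : ℤ) : L)‖ = ‖ω i‖ ^ k := by
      have h3 : ‖((n : ℤ) : L)‖ < ‖ω i ^ k‖ := by
        refine (norm_int_le_one _).trans_lt ?_
        rw [norm_pow]
        exact one_lt_pow₀ hlt (by omega)
      rw [sub_eq_add_neg, IsUltrametricDist.norm_add_eq_max_of_norm_ne_norm (by rw [norm_neg]; exact h3.ne'), norm_neg,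
        max_eq_left h3.le, norm_pow]
    rw [h2] at h1
    refine le_trans ?_ h1
    refine mul_le_mul_of_nonneg_left ?_ (pow_nonneg (norm_nonneg _) _)
    have h4 : (Finset.univ.erase i).card = d - 1 := by rw [Finset.card_erase_of_mem (Finset.mem_univ i)]; simp
    rw [← h4, ← Finset.prod_const]
    refine Finset.prod_le_prod (fun _ _ => hδ0.le) fun j _ => ?_
    have h5 := hn j
    simpa using h5
  obtain ⟨k, hk⟩ := pow_unbounded_of_one_lt ((δ ^ (d - 1))⁻¹) hlt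
  have h1 := key (k + 1) (by omega)
  have h2 : (0 : ℝ) < δ ^ (d - 1) := pow_pos hδ0 _
  have h3 : ‖ω i‖ ^ k ≤ ‖ω i‖ ^ (k + 1) := pow_le_pow_right₀ hlt.le (by omega)
  have h4 : (δ ^ (d - 1))⁻¹ * δ ^ (d - 1) < ‖ω i‖ ^ (k + 1) * δ ^ (d - 1) :=
    mul_lt_mul_of_pos_right (hk.trans_le h3) h2
  rw [inv_mul_cancel₀ h2.ne'] at h4
  linarith

/-- Coefficients of a product `∏ (X - ω_i)` with `|ω_i| ≤ 1`. -/
theorem norm_coeff_le_one {ι : Type*} (s : Finset ι) (ω : ι → L) (h : ∀ i ∈ s, ‖ω i‖ ≤ 1) (m : ℕ) :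
    ‖(∏ i ∈ s, (X - C (ω i))).coeff m‖ ≤ 1 := by
  classical
  induction s using Finset.induction_on generalizing m with
  | empty =>
    rw [Finset.prod_empty, coeff_one]
    split_ifs <;> simp
  | insert i s hi ih =>
    rw [Finset.prod_insert hi, sub_mul, coeff_sub, coeff_C_mul]
    have h1 : ‖(X * ∏ j ∈ s, (X - C (ω j))).coeff m‖ ≤ 1 := by
      cases m with
      | zero => simp
      | succ m =>
        rw [coeff_X_mul]
        exact ih (fun j hj => h j (Finset.mem_insert_of_mem hj)) m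
    have h2 : ‖ω i * (∏ j ∈ s, (X - C (ω j))).coeff m‖ ≤ 1 := by
      rw [norm_mul]
      exact mul_le_one₀ (h i (Finset.mem_insert_self _ _)) (norm_nonneg _)
        (ih (fun j hj => h j (Finset.mem_insert_of_mem hj)) m)
    exact (norm_sub_le _ _).trans (max_le h1 h2)

end

theorem exists_int_of_norm_le_one (q : ℚ) (h : ∀ (p : ℕ) [Fact p.Prime], ‖(q : ℚ_[p])‖ ≤ 1) : ∃ n : ℤ, (n : ℚ) = q := by
  have hden : q.den = 1 := by
    by_contra hne
    obtain ⟨p, hp, hdvd⟩ := Nat.exists_prime_and_dvd hne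
    have : Fact p.Prime := ⟨hp⟩
    have h1 := h p
    have h2 : ((q.num : ℤ) : ℚ_[p]) = (q : ℚ_[p]) * ((q.den : ℕ) : ℚ_[p]) := by
      have := Rat.mul_den_eq_num q
      exact_mod_cast this.symm
    have h3 : ‖((q.den : ℕ) : ℚ_[p])‖ < 1 := Padic.norm_natCast_lt_one_iff.mpr hdvd
    have h4 : ‖((q.num : ℤ) : ℚ_[p])‖ < 1 := by
      rw [h2, norm_mul]
      exact (mul_le_of_le_one_left (norm_nonneg _) h1).trans_lt h3
    have h5 : (p : ℤ) ∣ q.num := Padic.norm_intCast_lt_one_iff.mp h4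
    have h6 : p ∣ q.num.natAbs := Int.natCast_dvd.mp h5
    have h7 := Nat.dvd_gcd h6 hdvd
    rw [q.reduced] at h7
    exact hp.one_lt.ne' (Nat.dvd_one.mp h7)
  exact ⟨q.num, (Rat.den_eq_one_iff q).mp hden⟩

section main

variable {E : Type*} [Ring E] (D : E → ℚ)
variable (hmul : ∀ x y : E, D (x * y) = D x * D y) (d : ℕ) (hint : ∀ n : ℤ, D (n : E) = (n : ℚ) ^ d)
  (hpoly : ∀ (m : ℕ) (f : Fin m → E), ∃ G : MvPolynomial (Fin m) ℚ, ∀ a : Fin m → ℤ,
    D (∑ i, a i • f i) = MvPolynomial.eval (fun i => (a i : ℚ)) G)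

include hmul hint hpoly in
theorem norm_coeff_le (hd : Even d) (hD : ∀ x, ∃ n : ℤ, D x = n) (f : E) (P : ℚ[X])
    (hP : ∀ n : ℤ, D (f - n) = P.eval (n : ℚ)) (hPm : P.Monic) (hPd : P.natDegree = d)
    (p : ℕ) [Fact p.Prime] {L : Type*} [NormedField L] [IsUltrametricDist L] [IsAlgClosed L] [CharZero L]
    (φ : ℚ_[p] →+* L) (hφ : Isometry φ) (m : ℕ) : ‖((P.coeff m : ℚ) : ℚ_[p])‖ ≤ 1 := by
  have hs : (P.map (algebraMap ℚ L)).Splits := IsAlgClosed.splits _
  have hcard : Multiset.card (P.map (algebraMap ℚ L)).roots = d := by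
    rw [← hs.natDegree_eq_card_roots, hPm.natDegree_map, hPd]
  obtain ⟨ω, hω⟩ : ∃ ω : Fin d → L, (P.map (algebraMap ℚ L)).roots = Finset.univ.val.map ω := by
    have h1 : ∃ L' : List L, (L' : Multiset L) = (P.map (algebraMap ℚ L)).roots ∧ L'.length = d := by
      refine ⟨(P.map (algebraMap ℚ L)).roots.toList, Multiset.coe_toList _, ?_⟩
      rw [Multiset.length_toList, hcard]
    obtain ⟨L', hL1, hL2⟩ := h1
    refine ⟨fun i => L'.get (i.cast hL2.symm), ?_⟩
    rw [← hL1, Fin.univ_val_map]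
    congr 1
    apply List.ext_get
    · simp [hL2]
    · intro n h1 h2; simp
  have hω' : P.map (algebraMap ℚ L) = ∏ i, (X - C (ω i)) := by
    conv_lhs => rw [hs.eq_prod_roots]
    rw [(hPm.map _).leadingCoeff, C_1, one_mul, hω, Multiset.map_map]
    rfl
  have hnorm : ∀ x : ℚ_[p], ‖φ x‖ = ‖x‖ := fun x => by
    have := hφ.dist_eq x 0
    rwa [map_zero, dist_zero_right, dist_zero_right] at this
  have hle : ∀ i, ‖ω i‖ ≤ 1 := by
    refine norm_le_one d ω fun k n hk => ?_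
    have h1 := DegAlg.eq_prod D hmul d hint hpoly hd f P hP ω hω' (X ^ k - C n)
    have h2 : ∏ i, aeval (ω i) (X ^ k - C n : ℤ[X]) = ∏ i, (ω i ^ k - (n : L)) := by
      refine Finset.prod_congr rfl fun i _ => ?_
      simp
    rw [← h2, ← h1]
    obtain ⟨c, hc⟩ := hD (aeval f (X ^ k - C n : ℤ[X]))
    rw [hc, Rat.cast_intCast]
    exact norm_int_le_one c
  rw [← hnorm, map_ratCast]
  have h1 : ((P.coeff m : ℚ) : L) = (P.map (algebraMap ℚ L)).coeff m := by
    rw [coeff_map]; rfl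
  rw [h1, hω']
  exact norm_coeff_le_one Finset.univ ω (fun i _ => hle i) m

include hmul hint hpoly in
/-- **Integrality.** -/
theorem exists_int_poly (hd : Even d) (hD : ∀ x, ∃ n : ℤ, D x = n) (f : E) (P : ℚ[X])
    (hP : ∀ n : ℤ, D (f - n) = P.eval (n : ℚ)) (hPm : P.Monic) (hPd : P.natDegree = d) :
    ∃ Q : ℤ[X], Q.map (Int.castRingHom ℚ) = P := by
  have h1 : ∀ m : ℕ, ∃ n : ℤ, (n : ℚ) = P.coeff m := fun m => by
    refine exists_int_of_norm_le_one _ fun p hp => ?_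
    exact norm_coeff_le D hmul d hint hpoly hd hD f P hP hPm hPd p (algebraMap ℚ_[p] (PadicAlgCl p))
      (algebraMap_isometry ℚ_[p] (PadicAlgCl p)) m
  have h2 : P ∈ Polynomial.lifts (Int.castRingHom ℚ) := by
    rw [Polynomial.lifts_iff_coeff_lifts]
    intro m
    exact h1 m
  exact (Polynomial.mem_lifts P).mp h2

end main

end K519.DegInt
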