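import Groth.Agent.AbVar.K519.Trace
import Groth.Agent.AbVar.K519.DegInt

/-!
# Theorems on the characteristic polynomial (modulo the polynomiality `Poly` of the degree)

The statements of S12398, S15673 and S15674.
-/

set_option autoImplicit false
set_option linter.unusedSectionVars false

universe u

open CategoryTheory MonoidalCategory CartesianMonoidalCategory MonObj GrpObj AlgebraicGeometry Limits

namespace K519.CharThms

open Groth.Agent Books.AlgPts Books.AlgPtsGrp AbDual Nu Charpoly Trace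

variable {k : Type u} [Field k] [IsAlgClosed k]
  {A : Over (Spec (CommRingCat.of k))} [GrpObj A] [IsCommMonObj A] [IsProper A.hom] [GeometricallyIntegral A.hom]

theorem toHom_sub_intCast (α : A ⟶ A) [IsMonHom α] (n : ℤ) :
    (EndAV.End.of α - (n : EndAV.End A)).toHom = α * 𝟙 A ^ (-n) := by
  have h1 : (EndAV.End.of α - (n : EndAV.End A)).toHom = α / ((n : ℤ) : EndAV.End A).toHom := rfl
  rw [h1, EndAV.End.toHom_intCast, div_eq_mul_inv, zpow_neg]

/-- `D (α - n) = P(n)` from the hypotheses of the statements. -/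
theorem D_eq (α : A ⟶ A) [IsMonHom α] (P : Polynomial ℚ) (n : ℤ)
    (h1 : IsFinite (α * 𝟙 A ^ (-n)).left → ∀ a : A.left, (Scheme.Hom.finrank (α * 𝟙 A ^ (-n)).left a : ℚ) = P.eval (n : ℚ))
    (h2 : ¬ IsFinite (α * 𝟙 A ^ (-n)).left → P.eval (n : ℚ) = 0) :
    D (EndAV.End.of α - (n : EndAV.End A)) = P.eval (n : ℚ) := by
  have hint : IsIntegral A.left := GeometricallyIntegral.isIntegral_of_subsingleton A.hom
  obtain ⟨r, hr⟩ := Sga7.H515.FKGen.exists_dim A.hom
  apply D_eq_of_hyp r hr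
  · rw [toHom_sub_intCast]
    exact h1
  · rw [toHom_sub_intCast]
    exact h2

/-- The converse. -/
theorem eval_of_D (α : A ⟶ A) [IsMonHom α] (P : Polynomial ℚ) (n : ℤ)
    (h : D (EndAV.End.of α - (n : EndAV.End A)) = P.eval (n : ℚ)) :
    (IsFinite (α * 𝟙 A ^ (-n)).left → ∀ a : A.left, (Scheme.Hom.finrank (α * 𝟙 A ^ (-n)).left a : ℚ) = P.eval (n : ℚ)) ∧
      (¬ IsFinite (α * 𝟙 A ^ (-n)).left → P.eval (n : ℚ) = 0) := by
  have hint : IsIntegral A.left := GeometricallyIntegral.isIntegral_of_subsingleton A.hom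
  obtain ⟨r, hr⟩ := Sga7.H515.FKGen.exists_dim A.hom
  unfold D at h
  have hm : IsMonHom (α * 𝟙 A ^ (-n)) := by
    rw [← toHom_sub_intCast]; infer_instance
  rw [toHom_sub_intCast] at h
  constructor
  · intro hf a
    rw [finrank_eq_nu r hr hr, h]
  · intro hf
    rw [← h, nu_of_not_isFinite _ hf, Nat.cast_zero]

/-- S12398. -/
theorem charpoly_eq (hpoly : Poly A) (l : ℕ) [Fact l.Prime] (hl : (l : k) ≠ 0)
    (α : A ⟶ A) [IsMonHom α] (P : Polynomial ℤ)
    (hP : ∀ n : ℤ, (IsFinite (α * 𝟙 A ^ (-n)).left →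
        ∀ a : A.left, (Scheme.Hom.finrank (α * 𝟙 A ^ (-n)).left a : ℤ) = P.eval n) ∧
      (¬ IsFinite (α * 𝟙 A ^ (-n)).left → P.eval n = 0))
    [Module.Free ℤ_[l] (AbDual.TateMod A l (Over.mk (𝟙 (Spec (CommRingCat.of k)))))]
    [Module.Finite ℤ_[l] (AbDual.TateMod A l (Over.mk (𝟙 (Spec (CommRingCat.of k)))))] :
    (AbDual.tateMapₗ (l := l) (T := Over.mk (𝟙 (Spec (CommRingCat.of k)))) α).charpoly = P.map (Int.castRingHom ℤ_[l]) := by
  have h1 : charQ (EndAV.End.of α) = P.map (Int.castRingHom ℚ) := by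
    apply charQ_eq
    intro n
    have h3 : (P.map (Int.castRingHom ℚ)).eval (n : ℚ) = ((P.eval n : ℤ) : ℚ) := Polynomial.eval_intCast_map _ _ _
    apply D_eq
    · intro hf a
      rw [h3, ← (hP n).1 hf a]
      simp
    · intro hf
      rw [h3, (hP n).2 hf, Int.cast_zero]
  have h2 := map_charQ hpoly l hl (EndAV.End.of α)
  rw [h1, Polynomial.map_map] at h2
  apply Polynomial.map_injective (algebraMap ℤ_[l] ℚ_[l]) (IsFractionRing.injective ℤ_[l] ℚ_[l])
  rw [Polynomial.map_map]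
  have h3 : (algebraMap ℤ_[l] ℚ_[l]).comp (Int.castRingHom ℤ_[l]) = (algebraMap ℚ ℚ_[l]).comp (Int.castRingHom ℚ) :=
    RingHom.ext_int _ _
  rw [h3, h2]
  rfl

/-- S15673. -/
theorem nextCoeff_eq {B : Over (Spec (CommRingCat.of k))} [GrpObj B] [IsCommMonObj B] [IsProper B.hom]
    [GeometricallyIntegral B.hom] (hA : Poly A) (hB : Poly B)
    (α : A ⟶ B) [IsMonHom α] (β : B ⟶ A) [IsMonHom β] (P Q : Polynomial ℚ)
    (hP : ∀ n : ℤ, (IsFinite ((α ≫ β) * 𝟙 A ^ (-n)).left →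
        ∀ a : A.left, (Scheme.Hom.finrank ((α ≫ β) * 𝟙 A ^ (-n)).left a : ℚ) = P.eval (n : ℚ)) ∧
      (¬ IsFinite ((α ≫ β) * 𝟙 A ^ (-n)).left → P.eval (n : ℚ) = 0))
    (hQ : ∀ n : ℤ, (IsFinite ((β ≫ α) * 𝟙 B ^ (-n)).left →
        ∀ b : B.left, (Scheme.Hom.finrank ((β ≫ α) * 𝟙 B ^ (-n)).left b : ℚ) = Q.eval (n : ℚ)) ∧
      (¬ IsFinite ((β ≫ α) * 𝟙 B ^ (-n)).left → Q.eval (n : ℚ) = 0)) :
    P.nextCoeff = Q.nextCoeff := by
  obtain ⟨l, hlp, hl⟩ := exists_prime k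
  have h1 : charQ (EndAV.End.of (α ≫ β)) = P := charQ_eq fun n => D_eq _ P n (hP n).1 (hP n).2
  have h2 : charQ (EndAV.End.of (β ≫ α)) = Q := charQ_eq fun n => D_eq _ Q n (hQ n).1 (hQ n).2
  have f1 := TateFree.finite A l hl
  have f2 := TateFree.free A l hl
  have f3 := TateFree.finite B l hl
  have f4 := TateFree.free B l hl
  have h3 : tr (EndAV.End.of (α ≫ β)) = tr (EndAV.End.of (β ≫ α)) := by
    have h : ((tr (EndAV.End.of (α ≫ β)) : ℚ) : ℚ_[l]) = ((tr (EndAV.End.of (β ≫ α)) : ℚ) : ℚ_[l]) := by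
      have e1 : AbDual.tateMapₗ (l := l) (T := Over.mk (𝟙 (Spec (CommRingCat.of k)))) (EndAV.End.of (α ≫ β)).toHom =
          (AbDual.tateMapₗ (l := l) β).comp (AbDual.tateMapₗ (l := l) α) := Tate.tateMapₗ_comp α β
      have e2 : AbDual.tateMapₗ (l := l) (T := Over.mk (𝟙 (Spec (CommRingCat.of k)))) (EndAV.End.of (β ≫ α)).toHom =
          (AbDual.tateMapₗ (l := l) α).comp (AbDual.tateMapₗ (l := l) β) := Tate.tateMapₗ_comp β α
      rw [cast_tr hA l hl, cast_tr hB l hl, e1, e2, LinearMap.trace_comp_comm']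
    exact_mod_cast h
  unfold tr at h3
  rw [h1, h2] at h3
  linarith

/-- S15674. -/
theorem exists_int (hpoly : Poly A) (r : ℕ) (hr : topologicalKrullDim A.left = r) (α : A ⟶ A) [IsMonHom α] :
    ∃ P : Polynomial ℤ, P.Monic ∧ P.natDegree = 2 * r ∧
      ∀ n : ℤ, (IsFinite (α * 𝟙 A ^ (-n)).left → ∀ a : A.left, (Scheme.Hom.finrank (α * 𝟙 A ^ (-n)).left a : ℤ) = P.eval n) ∧
        (¬ IsFinite (α * 𝟙 A ^ (-n)).left → P.eval n = 0) := by
  have h0 : ∀ n : ℤ, D (EndAV.End.of α - (n : EndAV.End A)) = (charQ (EndAV.End.of α)).eval (n : ℚ) := fun n =>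
    (eval_charQ hpoly _ n).symm
  obtain ⟨Q, hQ⟩ := DegInt.exists_int_poly D (D_mul r hr) (2 * r) (D_intCast r hr) hpoly (even_two_mul r)
    (fun x => ⟨(nu x.toHom : ℤ), by simp [D]⟩) (EndAV.End.of α) _ h0
    (monic_charQ hpoly r hr _) (natDegree_charQ hpoly r hr _)
  refine ⟨Q, ?_, ?_, fun n => ?_⟩
  · apply Polynomial.monic_of_injective (RingHom.injective_int (Int.castRingHom ℚ))
    rw [hQ]
    exact monic_charQ hpoly r hr _
  · rw [← natDegree_charQ hpoly r hr (EndAV.End.of α), ← hQ,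
      Polynomial.natDegree_map_eq_of_injective (RingHom.injective_int (Int.castRingHom ℚ))]
  · have h1 := h0 n
    have h3 : (charQ (EndAV.End.of α)).eval (n : ℚ) = ((Q.eval n : ℤ) : ℚ) := by
      rw [← hQ]; exact Polynomial.eval_intCast_map _ _ _
    obtain ⟨h4, h5⟩ := eval_of_D α _ n h1
    rw [h3] at h4 h5
    constructor
    · intro hf a
      exact_mod_cast h4 hf a
    · intro hf
      exact_mod_cast h5 hf

end K519.CharThms
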