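import Groth.Agent.AbVar.K516.DegPoly
import Groth.Agent.AbVar.K519.CharThms
import Groth.Agent.Sga7.H742.P1Dim

/-!
# `Poly A` from helper516's polynomiality of the degree
-/

set_option autoImplicit false

universe u

open CategoryTheory MonoidalCategory CartesianMonoidalCategory MonObj GrpObj AlgebraicGeometry Limits

namespace K519.PolyA

open Charpoly Nu

variable {k : Type u} [Field k] [IsAlgClosed k]
  {A : Over (Spec (CommRingCat.of k))} [GrpObj A] [IsCommMonObj A] [IsProper A.hom] [GeometricallyIntegral A.hom]

theorem toHom_sum {m : ℕ} (f : Fin m → EndAV.End A) (a : Fin m → ℤ) (s : Finset (Fin m)) :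
    (∑ i ∈ s, a i • f i).toHom = ∏ i ∈ s, (f i).toHom ^ a i := by
  classical
  induction s using Finset.induction_on with
  | empty => rfl
  | insert i s hi ih =>
    rw [Finset.sum_insert hi, Finset.prod_insert hi, EndAV.End.toHom_add, ih]
    congr 1
    exact EndAV.Hom.toHom_zsmul _ _

/-- **Polynomiality of the degree.** -/
theorem poly : Poly A := by
  intro m f
  have hint : IsIntegral A.left := GeometricallyIntegral.isIntegral_of_subsingleton A.hom
  obtain ⟨r, hr⟩ := Groth.Agent.Sga7.H742.P1Dim.exists_dim A
  obtain ⟨P, -, hP⟩ := K516.DegPoly.exists_poly r hr (fun i => (f i).toHom) (fun i => inferInstance) hr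
  refine ⟨P, fun a => ?_⟩
  rw [← hP a]
  have h1 := toHom_sum f a Finset.univ
  have hm : IsMonHom (∏ i, (f i).toHom ^ a i) := by rw [← h1]; infer_instance
  unfold D
  rw [h1]
  apply eq_nu r hr hr
  · intro hf b
    rw [K516.DegPoly.finrank_eq r hr hr _ hf b]
  · intro hf
    rw [K516.DegPoly.deg, if_neg hf, Nat.cast_zero]

end K519.PolyA
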