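import Groth.Prelude.Def_AbDual

/-!
# Elementary facts on Tate modules of commutative group schemes

`T_l(A)(T)` is torsion free over `ℤ_[l]`; an element with `x_n = 0` is divisible by `l^n`; if multiplication
by `l` is surjective on `T`-points then every point killed by `l^n` is a component `x_n`.
-/

set_option autoImplicit false
universe u
open CategoryTheory MonoidalCategory CartesianMonoidalCategory MonObj AlgebraicGeometry AbDual

namespace K519.Tate

variable {S : Scheme.{u}} {A B : Over S} [GrpObj A] [IsCommMonObj A] [GrpObj B] [IsCommMonObj B]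
  {l : ℕ} {T : Over S}

theorem nsmul_apply (n : ℕ) (x : TateMod A l T) (m : ℕ) :
    ((n • x : TateMod A l T) : ℕ → Additive (T ⟶ A)) m = n • (x : ℕ → Additive (T ⟶ A)) m := rfl

theorem zero_apply (m : ℕ) : ((0 : TateMod A l T) : ℕ → Additive (T ⟶ A)) m = 0 := rfl

theorem add_apply (x y : TateMod A l T) (m : ℕ) :
    ((x + y : TateMod A l T) : ℕ → Additive (T ⟶ A)) m =
      (x : ℕ → Additive (T ⟶ A)) m + (y : ℕ → Additive (T ⟶ A)) m := rfl

theorem sub_apply (x y : TateMod A l T) (m : ℕ) :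
    ((x - y : TateMod A l T) : ℕ → Additive (T ⟶ A)) m =
      (x : ℕ → Additive (T ⟶ A)) m - (y : ℕ → Additive (T ⟶ A)) m := rfl

theorem pow_smul_apply_add (x : TateMod A l T) (n m : ℕ) :
    (l ^ m) • (x : ℕ → Additive (T ⟶ A)) (n + m) = (x : ℕ → Additive (T ⟶ A)) n := by
  induction m with
  | zero => simp
  | succ m ih =>
    rw [pow_succ, mul_nsmul', ← add_assoc, x.compat (n + m), ih]

/-- An element of the Tate module whose `n`-th component vanishes is divisible by `l^n`. -/
theorem exists_eq_pow_nsmul (x : TateMod A l T) (n : ℕ) (h : (x : ℕ → Additive (T ⟶ A)) n = 0) :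
    ∃ y : TateMod A l T, x = (l ^ n) • y := by
  refine ⟨⟨fun m => (x : ℕ → Additive (T ⟶ A)) (n + m), fun m => ?_, fun m => ?_⟩, ?_⟩
  · rw [pow_smul_apply_add, h]
  · exact x.compat (n + m)
  · refine TateMod.ext fun m => ?_
    rw [nsmul_apply]
    change _ = l ^ n • (x : ℕ → Additive (T ⟶ A)) (n + m)
    rw [add_comm n m, pow_smul_apply_add]

theorem pow_nsmul_apply_self (y : TateMod A l T) (n : ℕ) :
    (((l ^ n) • y : TateMod A l T) : ℕ → Additive (T ⟶ A)) n = 0 := by
  rw [nsmul_apply, y.torsion n]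

theorem apply_eq_zero_iff (x : TateMod A l T) (n : ℕ) :
    (x : ℕ → Additive (T ⟶ A)) n = 0 ↔ ∃ y : TateMod A l T, x = (l ^ n) • y :=
  ⟨exists_eq_pow_nsmul x n, by rintro ⟨y, rfl⟩; exact pow_nsmul_apply_self y n⟩

theorem eq_zero_of_pow_nsmul (x : TateMod A l T) (n : ℕ) (h : (l ^ n) • x = 0) : x = 0 := by
  refine TateMod.ext fun m => ?_
  have h1 := congrArg (fun y : TateMod A l T => (y : ℕ → Additive (T ⟶ A)) (m + n)) h
  simp only [nsmul_apply, pow_smul_apply_add] at h1
  exact h1

/-- If multiplication by `l` is surjective on `T`-points, every `T`-point killed by `l^n` is the `n`-th component of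
an element of the Tate module. -/
theorem exists_apply_eq (hdiv : ∀ y : T ⟶ A, ∃ x : T ⟶ A, x ^ l = y) (n : ℕ) (a : T ⟶ A)
    (ha : a ^ (l ^ n) = 1) : ∃ x : TateMod A l T, (x : ℕ → Additive (T ⟶ A)) n = Additive.ofMul a := by
  choose r hr using hdiv
  let u : ℕ → Additive (T ⟶ A) := fun m => Additive.ofMul (r^[m] a)
  have hu : ∀ m, l • u (m + 1) = u m := by
    intro m
    apply Additive.toMul.injective
    change (r^[m + 1] a) ^ l = r^[m] a
    rw [Function.iterate_succ_apply', hr]
  have hu' : ∀ m, (l ^ m) • u m = u 0 := by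
    intro m
    induction m with
    | zero => simp
    | succ m ih => rw [pow_succ, mul_nsmul', hu, ih]
  have hu0 : (l ^ n) • u 0 = 0 := Additive.toMul.injective ha
  refine ⟨⟨fun m => (l ^ n) • u m, fun m => ?_, fun m => ?_⟩, ?_⟩
  · rw [smul_comm, hu', hu0]
  · rw [smul_comm, hu]
  · exact hu' n

section module

variable [hl : Fact l.Prime]

theorem natCast_smul (n : ℕ) (x : TateMod A l T) : (n : ℤ_[l]) • x = n • x :=
  Nat.cast_smul_eq_nsmul ℤ_[l] n x

theorem pow_smul (n : ℕ) (x : TateMod A l T) : ((l : ℤ_[l]) ^ n) • x = (l ^ n) • x := by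
  rw [← natCast_smul, Nat.cast_pow]

theorem eq_zero_of_smul_eq_zero (a : ℤ_[l]) (ha : a ≠ 0) (x : TateMod A l T) (h : a • x = 0) : x = 0 := by
  have h1 := PadicInt.unitCoeff_spec ha
  rw [h1, mul_smul, ← mul_smul, mul_comm, mul_smul, pow_smul] at h
  have h2 : (l ^ a.valuation) • (((PadicInt.unitCoeff ha : ℤ_[l]ˣ) : ℤ_[l]) • x) = 0 := h
  have h3 := eq_zero_of_pow_nsmul _ _ h2
  have h4 : ((PadicInt.unitCoeff ha)⁻¹ : ℤ_[l]ˣ) • ((PadicInt.unitCoeff ha) • x) = 0 := by
    rw [Units.smul_def (PadicInt.unitCoeff ha) x, h3, smul_zero]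
  rwa [inv_smul_smul] at h4

instance isTorsionFree : Module.IsTorsionFree ℤ_[l] (TateMod A l T) :=
  Module.IsTorsionFree.of_smul_eq_zero fun a x h => by
    by_cases ha : a = 0
    · exact Or.inl ha
    · exact Or.inr (eq_zero_of_smul_eq_zero a ha x h)

theorem eq_zero_of_nsmul_eq_zero (n : ℕ) (hn : n ≠ 0) (x : TateMod A l T) (h : n • x = 0) : x = 0 :=
  eq_zero_of_smul_eq_zero (n : ℤ_[l]) (Nat.cast_ne_zero.mpr hn) x (by rw [natCast_smul, h])

theorem tateMapₗ_apply (f : A ⟶ B) [IsMonHom f] (x : TateMod A l T) (n : ℕ) :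
    ((tateMapₗ f x : TateMod B l T) : ℕ → Additive (T ⟶ B)) n =
      Additive.ofMul (((x : ℕ → Additive (T ⟶ A)) n).toMul ≫ f) := rfl

theorem tateMapₗ_comp {C : Over S} [GrpObj C] [IsCommMonObj C] (f : A ⟶ B) [IsMonHom f] (g : B ⟶ C) [IsMonHom g] :
    (tateMapₗ (l := l) (T := T) (f ≫ g)) = (tateMapₗ g).comp (tateMapₗ f) :=
  LinearMap.ext fun x => TateMod.ext fun n => by
    rw [LinearMap.comp_apply, tateMapₗ_apply, tateMapₗ_apply, tateMapₗ_apply, ← Category.assoc]
    rfl

theorem tateMapₗ_id : (tateMapₗ (l := l) (T := T) (𝟙 A)) = LinearMap.id :=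
  LinearMap.ext fun x => TateMod.ext fun n => by
    rw [tateMapₗ_apply, Category.comp_id]
    rfl

theorem tateMapₗ_mul (f g : A ⟶ B) [IsMonHom f] [IsMonHom g] [IsMonHom (f * g)] :
    (tateMapₗ (l := l) (T := T) (f * g)) = tateMapₗ f + tateMapₗ g :=
  LinearMap.ext fun x => TateMod.ext fun n => by
    rw [LinearMap.add_apply, add_apply, tateMapₗ_apply, tateMapₗ_apply, tateMapₗ_apply, MonObj.comp_mul]
    rfl

/-- A monomorphism induces an injection on Tate modules. -/
theorem tateMapₗ_injective_of_mono (f : A ⟶ B) [IsMonHom f] [Mono f] :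
    Function.Injective (tateMapₗ (l := l) (T := T) f) := by
  intro x y h
  refine TateMod.ext fun n => ?_
  have h1 := congrArg (fun z : TateMod B l T => (z : ℕ → Additive (T ⟶ B)) n) h
  simp only [tateMapₗ_apply] at h1
  have h2 : ((x : ℕ → Additive (T ⟶ A)) n).toMul = ((y : ℕ → Additive (T ⟶ A)) n).toMul :=
    (cancel_mono f).mp (Additive.ofMul.injective h1)
  exact Additive.toMul.injective h2

/-- If only finitely many points are killed by `f`, then `T_l(f)` is injective. -/
theorem tateMapₗ_injective_of_finite (f : A ⟶ B) [IsMonHom f] (hf : {x : T ⟶ A | x ≫ f = 1}.Finite) :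
    Function.Injective (tateMapₗ (l := l) (T := T) f) := by
  rw [injective_iff_map_eq_zero]
  intro x hx
  let K : Subgroup (T ⟶ A) :=
    { carrier := {x | x ≫ f = 1}
      mul_mem' := fun {a b} ha hb => by
        change (a * b) ≫ f = 1
        have ha' : a ≫ f = 1 := ha
        have hb' : b ≫ f = 1 := hb
        rw [MonObj.mul_comp, ha', hb', _root_.mul_one]
      one_mem' := MonObj.one_comp f
      inv_mem' := fun {a} ha => by
        change a⁻¹ ≫ f = 1
        have ha' : a ≫ f = 1 := ha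
        rw [GrpObj.inv_comp, ha', inv_one] }
  have hKfin : Finite K := hf.to_subtype
  have hK : ∀ n, ((x : ℕ → Additive (T ⟶ A)) n).toMul ∈ K := by
    intro n
    have h1 := congrArg (fun z : TateMod B l T => (z : ℕ → Additive (T ⟶ B)) n) hx
    simp only [tateMapₗ_apply] at h1
    exact h1
  refine eq_zero_of_nsmul_eq_zero (Nat.card K) Nat.card_pos.ne' x (TateMod.ext fun n => ?_)
  rw [nsmul_apply, zero_apply]
  apply Additive.toMul.injective
  change (((x : ℕ → Additive (T ⟶ A)) n).toMul) ^ (Nat.card K) = 1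
  have h2 : (⟨_, hK n⟩ : K) ^ (Nat.card K) = 1 := pow_card_eq_one'
  exact congrArg Subtype.val h2

end module

end K519.Tate
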