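import Groth.Agent.AbVar.K519.Nu

/-!
# The characteristic polynomial of an endomorphism of an abelian variety
-/

set_option autoImplicit false
set_option linter.unusedSectionVars false

universe u

open CategoryTheory MonoidalCategory CartesianMonoidalCategory MonObj GrpObj AlgebraicGeometry Limits

namespace K519.Charpoly

open Groth.Agent Books.AlgPts Books.AlgPtsGrp AbDual Nu

variable {k : Type u} [Field k] [IsAlgClosed k]
  {A : Over (Spec (CommRingCat.of k))} [GrpObj A] [IsCommMonObj A] [IsProper A.hom] [GeometricallyIntegral A.hom]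

/-- The degree function on the endomorphism ring. -/
noncomputable def D (φ : EndAV.End A) : ℚ := nu φ.toHom

variable (r : ℕ) (hr : topologicalKrullDim A.left = r)

include hr in
theorem D_mul (φ ψ : EndAV.End A) : D (φ * ψ) = D φ * D ψ := by
  unfold D
  have h1 : (φ * ψ).toHom = ψ.toHom ≫ φ.toHom := rfl
  rw [h1, nu_comp r hr hr hr, Nat.cast_mul, mul_comm]

include hr in
theorem D_intCast (n : ℤ) : D ((n : ℤ) : EndAV.End A) = (n : ℚ) ^ (2 * r) := by
  unfold D
  rw [EndAV.End.toHom_intCast, nu_zpow r hr n, Nat.cast_pow]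
  rw [pow_mul, pow_mul]
  congr 1
  rw [Nat.cast_natAbs, Int.cast_abs, sq_abs]

/-- The interface with the polynomiality of the degree (several homomorphisms). -/
def Poly (A : Over (Spec (CommRingCat.of k))) [GrpObj A] [IsCommMonObj A] : Prop :=
  ∀ (m : ℕ) (f : Fin m → EndAV.End A), ∃ G : MvPolynomial (Fin m) ℚ, ∀ a : Fin m → ℤ,
    D (∑ i, a i • f i) = MvPolynomial.eval (fun i => (a i : ℚ)) G

variable (hpoly : Poly A)

include hr hpoly in
/-- `P` is monic of degree `2r`. -/
theorem monic_natDegree (φ : EndAV.End A) (P : Polynomial ℚ) (hP : ∀ n : ℤ, D (φ - (n : EndAV.End A)) = P.eval (n : ℚ)) :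
    P.Monic ∧ P.natDegree = 2 * r :=
  CharAlg.monic_natDegree D (D_mul r hr) (2 * r) (D_intCast r hr) hpoly (even_two_mul r) φ P hP

include hpoly in
/-- Existence of `P`. -/
theorem exists_poly (φ : EndAV.End A) : ∃ P : Polynomial ℚ, ∀ n : ℤ, D (φ - (n : EndAV.End A)) = P.eval (n : ℚ) := by
  obtain ⟨G, hG⟩ := hpoly 2 ![φ, 1]
  refine ⟨MvPolynomial.aeval ![(1 : Polynomial ℚ), -Polynomial.X] G, fun n => ?_⟩
  have h1 := hG ![1, -n]
  have h2 : ∑ i, (![1, -n] : Fin 2 → ℤ) i • (![φ, 1] : Fin 2 → EndAV.End A) i = φ - (n : EndAV.End A) := by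
    rw [Fin.sum_univ_two]
    simp [sub_eq_add_neg]
  rw [h2] at h1
  rw [h1, ← Polynomial.coe_aeval_eq_eval, MvPolynomial.comp_aeval_apply, ← MvPolynomial.coe_aeval_eq_eval]
  change MvPolynomial.aeval _ G = MvPolynomial.aeval _ G
  congr 2
  funext i
  fin_cases i
  · simp
  · simp

variable (l : ℕ) [Fact l.Prime] (hl : (l : k) ≠ 0)
  [Module.Free ℤ_[l] (TateMod A l (Over.mk (𝟙 (Spec (CommRingCat.of k)))))]
  [Module.Finite ℤ_[l] (TateMod A l (Over.mk (𝟙 (Spec (CommRingCat.of k)))))]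
  (hrk : Module.finrank ℤ_[l] (TateMod A l (Over.mk (𝟙 (Spec (CommRingCat.of k))))) = 2 * r)

include hr hpoly hl hrk in
/-- **The characteristic polynomial of `φ` is the characteristic polynomial of `T_l φ`.** -/
theorem map_eq (φ : EndAV.End A) (P : Polynomial ℚ) (hP : ∀ n : ℤ, D (φ - (n : EndAV.End A)) = P.eval (n : ℚ)) :
    P.map (algebraMap ℚ ℚ_[l]) =
      (tateMapₗ (l := l) (T := Over.mk (𝟙 (Spec (CommRingCat.of k)))) φ.toHom).charpoly.map (algebraMap ℤ_[l] ℚ_[l]) :=
  CharAlg.charpoly_eq D (D_mul r hr) (2 * r) (D_intCast r hr) hpoly (even_two_mul r) l hrk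
    (EndAV.End.tateRep l (Over.mk (𝟙 (Spec (CommRingCat.of k))))) (fun g => norm_nu_eq l hl r hr g.toHom) φ P hP

end K519.Charpoly
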