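import Mathlib.Algebra.MvPolynomial.Funext
import Mathlib.Algebra.MvPolynomial.Eval
import Mathlib.Algebra.Polynomial.Splits
import Mathlib.Algebra.Polynomial.Roots
import Mathlib.FieldTheory.IsAlgClosed.AlgebraicClosure

/-!
# A multiplicative polynomial function of `F(f)` is the product of its values at the roots

`E` a ring, `D : E → ℚ` multiplicative and such that for every finite family `f_i` of elements `D (∑ a_i f_i)` is
given by a rational polynomial in the integers `a_i`.  If `D (f - n) = P(n)` with `P` monic with roots `ω_i` in a field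
`K` then `D (F(f)) = ∏ F(ω_i)` for every integer polynomial `F`.
-/

set_option autoImplicit false

open Polynomial

namespace K519.DegAlg

variable {E : Type*} [Ring E] (D : E → ℚ)

/-- `X₀ ∏ (X - X_j)` over the polynomial ring in `m + 1` variables. -/
noncomputable def gen (m : ℕ) : (MvPolynomial (Option (Fin m)) ℚ)[X] :=
  C (MvPolynomial.X none) * ∏ j : Fin m, (X - C (MvPolynomial.X (some j)))

/-- its specialisation -/
noncomputable def spec {R : Type*} [CommRing R] (m : ℕ) (z : Option (Fin m) → R) : R[X] :=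
  C (z none) * ∏ j : Fin m, (X - C (z (some j)))

theorem natDegree_spec_le {R : Type*} [CommRing R] (m : ℕ) (z : Option (Fin m) → R) :
    (spec m z).natDegree ≤ m := by
  unfold spec
  refine (natDegree_C_mul_le _ _).trans ((natDegree_prod_le _ _).trans ?_)
  refine (Finset.sum_le_card_nsmul _ _ 1 fun j _ => natDegree_X_sub_C_le _).trans ?_
  simp

theorem map_gen {R : Type*} [CommRing R] [Algebra ℚ R] (m : ℕ) (z : Option (Fin m) → R) :
    (gen m).map (MvPolynomial.aeval (R := ℚ) z : MvPolynomial (Option (Fin m)) ℚ →ₐ[ℚ] R).toRingHom = spec m z := by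
  unfold gen spec
  simp [Polynomial.map_prod]

theorem coeff_gen {R : Type*} [CommRing R] [Algebra ℚ R] (m : ℕ) (z : Option (Fin m) → R) (i : ℕ) :
    MvPolynomial.aeval (R := ℚ) z ((gen m).coeff i) = (spec m z).coeff i := by
  rw [← map_gen m z, Polynomial.coeff_map]
  rfl

theorem spec_int_cast {R : Type*} [CommRing R] (m : ℕ) (z : Option (Fin m) → ℤ) :
    (spec m z).map (Int.castRingHom R) = spec m (fun j => (z j : R)) := by
  unfold spec
  simp [Polynomial.map_prod]

variable (hmul : ∀ x y : E, D (x * y) = D x * D y) (d : ℕ) (hint : ∀ n : ℤ, D (n : E) = (n : ℚ) ^ d)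
  (hpoly : ∀ (m : ℕ) (f : Fin m → E), ∃ G : MvPolynomial (Fin m) ℚ, ∀ a : Fin m → ℤ,
    D (∑ i, a i • f i) = MvPolynomial.eval (fun i => (a i : ℚ)) G)

include hint in
theorem D_one : D 1 = 1 := by
  have := hint 1
  simpa using this

include hmul hint in
theorem D_spec (f : E) (P : ℚ[X]) (hP : ∀ n : ℤ, D (f - n) = P.eval (n : ℚ)) (m : ℕ)
    (z : Option (Fin m) → ℤ) :
    D (aeval f (spec m z)) = (z none : ℚ) ^ d * ∏ j : Fin m, P.eval (z (some j) : ℚ) := by
  have hlist : ∀ L : List (Fin m), D ((aeval f) ((L.map fun j => (X - C (z (some j)) : ℤ[X])).prod)) =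
      (L.map fun j => P.eval (z (some j) : ℚ)).prod := by
    intro L
    induction L with
    | nil => simp [D_one D d hint]
    | cons a L ih =>
      rw [List.map_cons, List.prod_cons, map_mul, hmul, ih, List.map_cons, List.prod_cons]
      congr 1
      rw [← hP]
      simp
  unfold spec
  rw [map_mul, hmul]
  congr 1
  · rw [← hint]; simp
  · have h1 := hlist (Finset.univ : Finset (Fin m)).toList
    rw [Finset.prod_map_toList, Finset.prod_map_toList] at h1
    exact h1

include hmul hint hpoly in
/-- The key polynomial identity, over an arbitrary `ℚ`-algebra. -/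
theorem exists_key (f : E) (P : ℚ[X]) (hP : ∀ n : ℤ, D (f - n) = P.eval (n : ℚ)) (m : ℕ) :
    ∃ G : MvPolynomial (Fin (m + 1)) ℚ,
      (∀ F : ℤ[X], F.natDegree ≤ m → D (aeval f F) = MvPolynomial.eval (fun i : Fin (m + 1) => (F.coeff i : ℚ)) G) ∧
      ∀ {R : Type*} [CommRing R] [Algebra ℚ R] (z : Option (Fin m) → R),
        MvPolynomial.aeval (R := ℚ) (fun i : Fin (m + 1) => (spec m z).coeff i) G =
          z none ^ d * ∏ j : Fin m, aeval (z (some j)) P := by
  obtain ⟨G, hG⟩ := hpoly (m + 1) (fun i => f ^ (i : ℕ))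
  have h1 : ∀ F : ℤ[X], F.natDegree ≤ m → D (aeval f F) = MvPolynomial.eval (fun i : Fin (m + 1) => (F.coeff i : ℚ)) G := by
    intro F hF
    rw [← hG, Polynomial.aeval_eq_sum_range' (Nat.lt_succ_of_le hF), ← Fin.sum_univ_eq_sum_range
      (fun i => F.coeff i • f ^ i)]
  refine ⟨G, h1, ?_⟩
  have h2 : MvPolynomial.aeval (R := ℚ) (fun i : Fin (m + 1) => (gen m).coeff i) G =
      (MvPolynomial.X none) ^ d * ∏ j : Fin m, aeval (MvPolynomial.X (R := ℚ) (some j)) P := by
    apply MvPolynomial.funext_set (s := fun _ => Set.range (Int.cast : ℤ → ℚ))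
      (fun _ => Set.infinite_range_of_injective Int.cast_injective)
    intro x hx
    have hx' : ∀ i, ∃ n : ℤ, (n : ℚ) = x i := fun i => hx i (Set.mem_univ i)
    choose z hz using hx'
    have hxz : x = fun i => (z i : ℚ) := funext fun i => (hz i).symm
    have e2 : ∀ i : ℕ, MvPolynomial.aeval (R := ℚ) x ((gen m).coeff i) = ((spec m z).coeff i : ℚ) := by
      intro i
      have e3 := coeff_gen (R := ℚ) m x i
      rw [e3, hxz, ← spec_int_cast, Polynomial.coeff_map]
      rfl
    rw [← MvPolynomial.coe_aeval_eq_eval]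
    change MvPolynomial.aeval (R := ℚ) x _ = MvPolynomial.aeval (R := ℚ) x _
    rw [MvPolynomial.comp_aeval_apply, map_mul, map_pow, map_prod, MvPolynomial.aeval_X]
    have e4 : ∀ j : Fin m, MvPolynomial.aeval (R := ℚ) x (aeval (MvPolynomial.X (R := ℚ) (some j)) P) =
        P.eval (z (some j) : ℚ) := by
      intro j
      rw [← Polynomial.aeval_algHom_apply, MvPolynomial.aeval_X, hxz, Polynomial.coe_aeval_eq_eval]
    have e5 : (fun i : Fin (m + 1) => MvPolynomial.aeval (R := ℚ) x ((gen m).coeff i)) =
        fun i : Fin (m + 1) => ((spec m z).coeff i : ℚ) := funext fun i => e2 i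
    rw [Finset.prod_congr rfl fun j _ => e4 j, e5]
    change MvPolynomial.eval _ G = _
    rw [← h1 _ (natDegree_spec_le m z), D_spec D hmul d hint f P hP m z, hxz]
  intro R _ _ z
  have h3 := congrArg (MvPolynomial.aeval (R := ℚ) z) h2
  rw [MvPolynomial.comp_aeval_apply, map_mul, map_pow, map_prod, MvPolynomial.aeval_X] at h3
  have e5 : (fun i : Fin (m + 1) => MvPolynomial.aeval (R := ℚ) z ((gen m).coeff i)) =
        fun i : Fin (m + 1) => (spec m z).coeff i := funext fun i => coeff_gen m z i
  rw [e5] at h3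
  rw [h3]
  congr 1
  refine Finset.prod_congr rfl fun j _ => ?_
  rw [← Polynomial.aeval_algHom_apply, MvPolynomial.aeval_X]

include hmul hint hpoly in
/-- Over an algebraically closed field `K` of characteristic zero: `D (F(f)) = ∏ F(ω_i)`. -/
theorem eq_prod_of_isAlgClosed (hd : Even d) (f : E) (P : ℚ[X]) (hP : ∀ n : ℤ, D (f - n) = P.eval (n : ℚ))
    {K : Type*} [Field K] [Algebra ℚ K] [IsAlgClosed K] (ω : Fin d → K)
    (hω : P.map (algebraMap ℚ K) = ∏ i, (X - C (ω i))) (F : ℤ[X]) :
    ((D (aeval f F) : ℚ) : K) = ∏ i, aeval (ω i) F := by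
  have : CharZero K := algebraRat.charZero K
  obtain ⟨G, hG1, hG2⟩ := exists_key D hmul d hint hpoly f P hP F.natDegree
  -- the roots of `F`
  have hs : (F.map (Int.castRingHom K)).Splits := IsAlgClosed.splits _
  have hdeg : (F.map (Int.castRingHom K)).natDegree = F.natDegree :=
    Polynomial.natDegree_map_eq_of_injective (RingHom.injective_int _) F
  have hcard : Multiset.card (F.map (Int.castRingHom K)).roots = F.natDegree := by
    rw [← hdeg]; exact hs.natDegree_eq_card_roots.symm
  obtain ⟨a, ha⟩ : ∃ a : Fin F.natDegree → K, (F.map (Int.castRingHom K)).roots = Finset.univ.val.map a := by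
    have h1 : ∃ L : List K, (L : Multiset K) = (F.map (Int.castRingHom K)).roots ∧ L.length = F.natDegree := by
      refine ⟨(F.map (Int.castRingHom K)).roots.toList, Multiset.coe_toList _, ?_⟩
      rw [Multiset.length_toList, hcard]
    obtain ⟨L, hL1, hL2⟩ := h1
    refine ⟨fun i => L.get (i.cast hL2.symm), ?_⟩
    rw [← hL1, Fin.univ_val_map]
    congr 1
    apply List.ext_get
    · simp [hL2]
    · intro n h1 h2; simp
  let z : Option (Fin F.natDegree) → K := fun o => o.elim (F.leadingCoeff : K) a
  have hspec : spec F.natDegree z = F.map (Int.castRingHom K) := by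
    have h1 := hs.eq_prod_roots
    rw [h1, ha, Multiset.map_map]
    unfold spec
    congr 2
    · change (F.leadingCoeff : K) = _
      rw [Polynomial.leadingCoeff_map_of_injective (RingHom.injective_int _)]
      rfl
  have h2 := hG2 z
  rw [hspec] at h2
  have h3 : MvPolynomial.aeval (R := ℚ) (fun i : Fin (F.natDegree + 1) => (F.map (Int.castRingHom K)).coeff i) G =
      ((D (aeval f F) : ℚ) : K) := by
    rw [hG1 F le_rfl]
    have h4 : (fun i : Fin (F.natDegree + 1) => (F.map (Int.castRingHom K)).coeff i) =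
        fun i : Fin (F.natDegree + 1) => algebraMap ℚ K (F.coeff i : ℚ) := by
      funext i
      rw [Polynomial.coeff_map]
      simp
    rw [h4]
    have h5 := MvPolynomial.aeval_algebraMap_apply K (fun i : Fin (F.natDegree + 1) => (F.coeff i : ℚ)) G
    refine h5.trans ?_
    rw [eq_ratCast]
    rfl
  rw [← h3, h2]
  change (F.leadingCoeff : K) ^ d * ∏ j, aeval (a j) P = _
  have h6 : ∀ x : K, aeval x P = ∏ i, (x - ω i) := by
    intro x
    rw [Polynomial.aeval_def, Polynomial.eval₂_eq_eval_map, hω, Polynomial.eval_prod]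
    simp
  have h7 : ∀ x : K, aeval x F = (F.leadingCoeff : K) * ∏ j, (x - a j) := by
    intro x
    rw [Polynomial.aeval_def, Polynomial.eval₂_eq_eval_map]
    have h8 : F.map (algebraMap ℤ K) = F.map (Int.castRingHom K) := rfl
    rw [h8, ← hspec]
    unfold spec
    rw [Polynomial.eval_mul, Polynomial.eval_C, Polynomial.eval_prod]
    simp [z]
  rw [Finset.prod_congr rfl fun j _ => h6 (a j), Finset.prod_congr rfl fun i _ => h7 (ω i),
    Finset.prod_mul_distrib, Finset.prod_const, Finset.card_univ, Fintype.card_fin, Finset.prod_comm]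
  congr 1
  have h9 : ∀ j, ∏ i, (a j - ω i) = ∏ i, (ω i - a j) := by
    intro j
    have : ∀ i, a j - ω i = (-1) * (ω i - a j) := fun i => by ring
    rw [Finset.prod_congr rfl fun i _ => this i, Finset.prod_mul_distrib, Finset.prod_const, Finset.card_univ,
      Fintype.card_fin, hd.neg_one_pow, one_mul]
  rw [Finset.prod_comm, Finset.prod_congr rfl fun j _ => h9 j, Finset.prod_comm]

include hmul hint hpoly in
/-- The same over any extension `K` of `ℚ` in which `P` splits. -/
theorem eq_prod (hd : Even d) (f : E) (P : ℚ[X]) (hP : ∀ n : ℤ, D (f - n) = P.eval (n : ℚ))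
    {K : Type*} [Field K] [Algebra ℚ K] (ω : Fin d → K)
    (hω : P.map (algebraMap ℚ K) = ∏ i, (X - C (ω i))) (F : ℤ[X]) :
    ((D (aeval f F) : ℚ) : K) = ∏ i, aeval (ω i) F := by
  have : CharZero K := algebraRat.charZero K
  apply (algebraMap K (AlgebraicClosure K)).injective
  have h1 := eq_prod_of_isAlgClosed D hmul d hint hpoly hd f P hP (K := AlgebraicClosure K)
    (fun i => algebraMap K (AlgebraicClosure K) (ω i)) (by
      have h2 := congrArg (Polynomial.map (algebraMap K (AlgebraicClosure K))) hω
      rw [Polynomial.map_map, Polynomial.map_prod] at h2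
      have h3 : (algebraMap K (AlgebraicClosure K)).comp (algebraMap ℚ K) = algebraMap ℚ (AlgebraicClosure K) :=
        Subsingleton.elim _ _
      rw [h3] at h2
      rw [h2]
      simp) F
  rw [map_ratCast, h1, map_prod]
  refine Finset.prod_congr rfl fun i _ => ?_
  rw [Polynomial.aeval_algebraMap_apply]

end K519.DegAlg
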