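import Groth.Agent.AbVar.K519.TateDet
import Groth.Agent.AbVar.K520.TateFin

/-!
# The Tate module of an abelian variety over an algebraically closed field is free of rank `2r`
-/

set_option autoImplicit false

universe u

open CategoryTheory MonoidalCategory CartesianMonoidalCategory MonObj GrpObj AlgebraicGeometry Limits

namespace K519.TateFree

open Groth.Agent AbDual TateDet

variable {k : Type u} [Field k] [IsAlgClosed k]
variable (A : Over (Spec (CommRingCat.of k))) [GrpObj A] [IsCommMonObj A] [IsProper A.hom] [GeometricallyIntegral A.hom]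
  (l : ℕ) [hlp : Fact l.Prime] (hl : (l : k) ≠ 0)

include hl

theorem finite : Module.Finite ℤ_[l] (TateMod A l (Over.mk (𝟙 (Spec (CommRingCat.of k))))) := by
  apply K520.TateFin.finite_of_finite_tors
  have hint : IsIntegral A.left := GeometricallyIntegral.isIntegral_of_subsingleton A.hom
  obtain ⟨g, hg⟩ := Sga7.H515.FKGen.exists_dim A.hom
  have h1 := Etcore.AbTors.card_torsion A g hg l hl
  have h2 : Finite {x : Over.mk (𝟙 (Spec (CommRingCat.of k))) ⟶ A // x ^ l = 1} :=
    Nat.finite_of_card_ne_zero (by rw [h1]; exact pow_ne_zero _ hlp.out.ne_zero)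
  exact h2

theorem free : Module.Free ℤ_[l] (TateMod A l (Over.mk (𝟙 (Spec (CommRingCat.of k))))) := by
  have := finite A l hl
  infer_instance

theorem finrank_eq (r : ℕ) (hr : topologicalKrullDim A.left = r) :
    Module.finrank ℤ_[l] (TateMod A l (Over.mk (𝟙 (Spec (CommRingCat.of k))))) = 2 * r := by
  classical
  have := finite A l hl
  have := free A l hl
  let V := TateMod A l (Over.mk (𝟙 (Spec (CommRingCat.of k))))
  let b := Module.Free.chooseBasis ℤ_[l] V
  let φ : V →ₗ[ℤ_[l]] V := (l : ℤ_[l]) • LinearMap.id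
  have hl0 : (l : ℤ_[l]) ≠ 0 := Nat.cast_ne_zero.mpr hlp.out.ne_zero
  have hφ : Function.Injective φ := by
    rw [injective_iff_map_eq_zero]
    intro x hx
    exact Tate.eq_zero_of_smul_eq_zero _ hl0 x hx
  have h1 := PadicDet.card_quotient_range b b φ hφ
  have h2 : (LinearMap.toMatrix b b φ).det = (l : ℤ_[l]) ^ Module.finrank ℤ_[l] V := by
    have h3 : LinearMap.toMatrix b b φ = (l : ℤ_[l]) • (1 : Matrix _ _ ℤ_[l]) := by
      rw [map_smul, LinearMap.toMatrix_id]
    rw [h3, Matrix.det_smul, Matrix.det_one, _root_.mul_one, Module.finrank_eq_card_chooseBasisIndex]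
  rw [h2, PadicInt.valuation_pow, PadicInt.valuation_p, _root_.mul_one] at h1
  have h3 : (LinearMap.range φ).toAddSubgroup = (TateMod.component A l (Over.mk (𝟙 (Spec (CommRingCat.of k)))) 1).ker := by
    ext x
    constructor
    · rintro ⟨y, rfl⟩
      have h4 := Tate.pow_nsmul_apply_self y 1
      rw [← Tate.pow_smul, pow_one] at h4
      exact h4
    · intro hx
      obtain ⟨y, hy⟩ := Tate.exists_eq_pow_nsmul x 1 hx
      refine ⟨y, ?_⟩
      rw [hy, ← Tate.pow_smul, pow_one]
      rfl
  have h4 : (LinearMap.range φ).toAddSubgroup.index = l ^ (2 * r) := by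
    rw [h3, AddSubgroup.index_ker, range_component (KerFinite.exists_pow_eq A l hlp.out.one_lt.le), card_tors, pow_one]
    exact Etcore.AbTors.card_torsion A r hr l hl
  have h5 : (LinearMap.range φ).toAddSubgroup.index = l ^ Module.finrank ℤ_[l] V := h1
  exact Nat.pow_right_injective hlp.out.two_le (h5.symm.trans h4)

end K519.TateFree
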