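import Groth.Agent.AbVar.K519.Charpoly
import Groth.Agent.AbVar.K519.TateFree

/-!
# The characteristic polynomial and the trace of an endomorphism of an abelian variety

`charQ φ` is the polynomial with rational coefficients with `charQ φ (n) = ν(φ - n)`; `tr φ` is its trace.
-/

set_option autoImplicit false
set_option linter.unusedSectionVars false

universe u

open CategoryTheory MonoidalCategory CartesianMonoidalCategory MonObj GrpObj AlgebraicGeometry Limits

namespace K519.Trace

open Groth.Agent Books.AlgPts Books.AlgPtsGrp AbDual Nu Charpoly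

variable {k : Type u} [Field k] [IsAlgClosed k]
  {A : Over (Spec (CommRingCat.of k))} [GrpObj A] [IsCommMonObj A] [IsProper A.hom] [GeometricallyIntegral A.hom]

/-- `k` has an invertible prime. -/
theorem exists_prime (k : Type u) [Field k] : ∃ l : ℕ, Fact l.Prime ∧ (l : k) ≠ 0 := by
  rcases CharP.exists' k with hchar | ⟨p, hp, hchar⟩
  · exact ⟨2, ⟨Nat.prime_two⟩, by exact_mod_cast two_ne_zero (α := k)⟩
  · obtain ⟨l, hl1, hl2⟩ := Nat.exists_infinite_primes (p + 1)
    refine ⟨l, ⟨hl2⟩, fun h2 => ?_⟩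
    have h3 := (CharP.cast_eq_zero_iff k p l).mp h2
    have h4 := (Nat.prime_dvd_prime_iff_eq hp.out hl2).mp h3
    omega

theorem eq_of_eval_intCast {P Q : Polynomial ℚ} (h : ∀ n : ℤ, P.eval (n : ℚ) = Q.eval (n : ℚ)) : P = Q := by
  apply Polynomial.eq_of_infinite_eval_eq
  refine Set.Infinite.mono (s := Set.range (Int.cast : ℤ → ℚ)) ?_
    (Set.infinite_range_of_injective Int.cast_injective)
  rintro _ ⟨n, rfl⟩
  exact h n

/-- The characteristic polynomial. -/
noncomputable def charQ (φ : EndAV.End A) : Polynomial ℚ := by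
  classical exact if h : ∃ P : Polynomial ℚ, ∀ n : ℤ, D (φ - (n : EndAV.End A)) = P.eval (n : ℚ) then h.choose else 0

/-- The trace. -/
noncomputable def tr (φ : EndAV.End A) : ℚ := -(charQ φ).nextCoeff

/-- The characteristic polynomial is characterised by its values. -/
theorem charQ_eq {φ : EndAV.End A} {P : Polynomial ℚ} (hP : ∀ n : ℤ, D (φ - (n : EndAV.End A)) = P.eval (n : ℚ)) :
    charQ φ = P := by
  have h : ∃ P : Polynomial ℚ, ∀ n : ℤ, D (φ - (n : EndAV.End A)) = P.eval (n : ℚ) := ⟨P, hP⟩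
  unfold charQ
  rw [dif_pos h]
  exact eq_of_eval_intCast fun n => by rw [← h.choose_spec n, hP n]

variable (hpoly : Poly A)

include hpoly in
theorem eval_charQ (φ : EndAV.End A) (n : ℤ) : (charQ φ).eval (n : ℚ) = D (φ - (n : EndAV.End A)) := by
  obtain ⟨P, hP⟩ := exists_poly hpoly φ
  rw [charQ_eq hP, hP]

variable (r : ℕ) (hr : topologicalKrullDim A.left = r)

include hpoly hr in
theorem monic_charQ (φ : EndAV.End A) : (charQ φ).Monic :=
  (monic_natDegree r hr hpoly φ (charQ φ) fun n => (eval_charQ hpoly φ n).symm).1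

include hpoly hr in
theorem natDegree_charQ (φ : EndAV.End A) : (charQ φ).natDegree = 2 * r :=
  (monic_natDegree r hr hpoly φ (charQ φ) fun n => (eval_charQ hpoly φ n).symm).2

section Tate

variable (l : ℕ) [Fact l.Prime] (hl : (l : k) ≠ 0)

include hpoly hl in
theorem map_charQ [Module.Free ℤ_[l] (TateMod A l (Over.mk (𝟙 (Spec (CommRingCat.of k)))))]
    [Module.Finite ℤ_[l] (TateMod A l (Over.mk (𝟙 (Spec (CommRingCat.of k)))))] (φ : EndAV.End A) :
    (charQ φ).map (algebraMap ℚ ℚ_[l]) =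
      (tateMapₗ (l := l) (T := Over.mk (𝟙 (Spec (CommRingCat.of k)))) φ.toHom).charpoly.map (algebraMap ℤ_[l] ℚ_[l]) := by
  have hint : IsIntegral A.left := GeometricallyIntegral.isIntegral_of_subsingleton A.hom
  obtain ⟨r, hr⟩ := Sga7.H515.FKGen.exists_dim A.hom
  exact map_eq r hr hpoly l hl (TateFree.finrank_eq A l hl r hr) φ _ fun n => (eval_charQ hpoly φ n).symm

include hpoly hl in
/-- The trace is the trace on the Tate module. -/
theorem cast_tr (φ : EndAV.End A) :
    ((tr φ : ℚ) : ℚ_[l]) =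
      ((LinearMap.trace ℤ_[l] _ (tateMapₗ (l := l) (T := Over.mk (𝟙 (Spec (CommRingCat.of k)))) φ.toHom) : ℤ_[l]) : ℚ_[l]) := by
  classical
  have := TateFree.finite A l hl
  have := TateFree.free A l hl
  let b := Module.Free.chooseBasis ℤ_[l] (TateMod A l (Over.mk (𝟙 (Spec (CommRingCat.of k)))))
  have h1 := map_charQ hpoly l hl φ
  have h2 : ((charQ φ).map (algebraMap ℚ ℚ_[l])).nextCoeff = algebraMap ℚ ℚ_[l] (charQ φ).nextCoeff :=
    Polynomial.nextCoeff_map (algebraMap ℚ ℚ_[l]).injective _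
  have h3 := Polynomial.nextCoeff_map (p := (tateMapₗ (l := l) (T := Over.mk (𝟙 (Spec (CommRingCat.of k))))
    φ.toHom).charpoly) (f := algebraMap ℤ_[l] ℚ_[l]) (IsFractionRing.injective ℤ_[l] ℚ_[l])
  rw [LinearMap.trace_eq_matrix_trace ℤ_[l] b, Matrix.trace_eq_neg_charpoly_nextCoeff, LinearMap.charpoly_toMatrix,
    PadicInt.coe_neg]
  rw [h1, h3] at h2
  rw [tr, Rat.cast_neg]
  congr 1
  exact h2.symm

end Tate

include hpoly in
theorem tr_add (φ ψ : EndAV.End A) : tr (φ + ψ) = tr φ + tr ψ := by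
  obtain ⟨l, hlp, hl⟩ := exists_prime k
  have h : ((tr (φ + ψ) : ℚ) : ℚ_[l]) = ((tr φ + tr ψ : ℚ) : ℚ_[l]) := by
    rw [Rat.cast_add, cast_tr hpoly l hl, cast_tr hpoly l hl, cast_tr hpoly l hl, ← PadicInt.coe_add, ← map_add]
    congr 2
    exact map_add (EndAV.End.tateRep l (Over.mk (𝟙 (Spec (CommRingCat.of k))))) φ ψ
  exact_mod_cast h

include hpoly in
theorem tr_mul_comm (φ ψ : EndAV.End A) : tr (φ * ψ) = tr (ψ * φ) := by
  obtain ⟨l, hlp, hl⟩ := exists_prime k
  have := TateFree.finite A l hl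
  have := TateFree.free A l hl
  have h : ((tr (φ * ψ) : ℚ) : ℚ_[l]) = ((tr (ψ * φ) : ℚ) : ℚ_[l]) := by
    rw [cast_tr hpoly l hl, cast_tr hpoly l hl]
    congr 1
    have h1 : ∀ a b : EndAV.End A, tateMapₗ (l := l) (T := Over.mk (𝟙 (Spec (CommRingCat.of k)))) (a * b).toHom =
      tateMapₗ (l := l) (T := Over.mk (𝟙 (Spec (CommRingCat.of k)))) a.toHom *
        tateMapₗ (l := l) (T := Over.mk (𝟙 (Spec (CommRingCat.of k)))) b.toHom := fun a b =>
      map_mul (EndAV.End.tateRep l (Over.mk (𝟙 (Spec (CommRingCat.of k))))) a b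
    rw [h1, h1, LinearMap.trace_mul_comm]
  exact_mod_cast h

include hpoly in
theorem tr_zero : tr (0 : EndAV.End A) = 0 := by
  have := tr_add hpoly (0 : EndAV.End A) 0
  rw [add_zero] at this
  linarith

include hpoly in
theorem tr_neg (φ : EndAV.End A) : tr (-φ) = -tr φ := by
  have := tr_add hpoly φ (-φ)
  rw [add_neg_cancel, tr_zero hpoly] at this
  linarith

/-- The trace as an additive map. -/
noncomputable def trHom : EndAV.End A →+ ℚ where
  toFun := tr
  map_zero' := tr_zero hpoly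
  map_add' := tr_add hpoly

@[simp] theorem trHom_apply (φ : EndAV.End A) : trHom hpoly φ = tr φ := rfl

include hpoly in
theorem tr_zsmul (n : ℤ) (φ : EndAV.End A) : tr (n • φ) = n * tr φ := by
  have := map_zsmul (trHom hpoly) n φ
  simpa using this

include hpoly in
theorem tr_nsmul (n : ℕ) (φ : EndAV.End A) : tr (n • φ) = n * tr φ := by
  have := map_nsmul (trHom hpoly) n φ
  simpa using this

include hr in
theorem D_neg (φ : EndAV.End A) : D (-φ) = D φ := by
  have h1 : -φ = ((-1 : ℤ) : EndAV.End A) * φ := by simp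
  rw [h1, D_mul r hr, D_intCast r hr]
  simp

include hpoly hr in
/-- The polynomial `P` with `P(j) = ν(φ + j)`: its coefficient in degree `2r - 1` is the trace. -/
theorem coeff_eq_tr (hr1 : 1 ≤ r) (φ : EndAV.End A) (P : Polynomial ℚ)
    (hP : ∀ j : ℤ, D (φ + (j : EndAV.End A)) = P.eval (j : ℚ)) : P.coeff (2 * r - 1) = tr φ := by
  have h1 : charQ (-φ) = P := by
    apply charQ_eq
    intro n
    rw [← hP, ← D_neg r hr (φ + (n : EndAV.End A))]
    congr 1
    abel
  have h2 : P.natDegree = 2 * r := by rw [← h1, natDegree_charQ hpoly r hr]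
  have h3 : P.nextCoeff = P.coeff (2 * r - 1) := by
    rw [Polynomial.nextCoeff_of_natDegree_pos (by omega), h2]
  rw [← h3, ← h1]
  have h4 := tr_neg hpoly φ
  unfold tr at h4 ⊢
  linarith

/-- The values demanded in the statements. -/
theorem D_eq_of_hyp (r : ℕ) (hr : topologicalKrullDim A.left = r) (φ : EndAV.End A) (c : ℚ)
    (h1 : IsFinite (EndAV.End.toHom φ).left → ∀ a : A.left, (Scheme.Hom.finrank (EndAV.End.toHom φ).left a : ℚ) = c)
    (h2 : ¬ IsFinite (EndAV.End.toHom φ).left → c = 0) : D φ = c :=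
  eq_nu r hr hr φ.toHom c h1 h2

end K519.Trace
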