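import Groth.Agent.Sga3C.HopfPowMain
import Groth.Agent.Grpsch.AffHopf
import Groth.Agent.Grpsch.KerMul
import Groth.Agent.Books.AlgPts
import Groth.Agent.Fga.DimLt
import Groth.Agent.Pi1C.LefReduce
import Groth.Agent.Sga7.H756.RevIsog
import Mathlib.NumberTheory.Padics.PadicVal.Basic

/-!
# The degree of an isogeny over an algebraically closed field

* `padicValNat_finrank`: for a finite flat homomorphism `α : A ⟶ B` of group schemes over an algebraically closed
  field and `l` a prime different from the characteristic, `v_l (deg α) = v_l (# ker α (K))`.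
* `surjective_of_isFinite`: a finite morphism of irreducible schemes of the same dimension is surjective.
-/

set_option autoImplicit false

universe u

open CategoryTheory MonoidalCategory CartesianMonoidalCategory MonObj GrpObj AlgebraicGeometry Limits

namespace K519.DegKer

open Groth.Agent Books.AlgPts Sga3C.HopfPow WithConv

theorem padicValNat_finrank_hopf {K : Type u} [Field K] [IsAlgClosed K] (l : ℕ) [hl : Fact l.Prime] (hlK : (l : K) ≠ 0)
    (A : Type u) [CommRing A] [HopfAlgebra K A] [Module.Finite K A] :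
    padicValNat l (Module.finrank K A) = padicValNat l (Nat.card (PrimeSpectrum A)) ∧
      Nat.card (PrimeSpectrum A) ≠ 0 := by
  have : IsArtinianRing A := isArtinian_of_tower K inferInstance
  obtain ⟨N₁, hN₁⟩ := IsArtinianRing.isNilpotent_nilradical (R := A)
  obtain ⟨N₂, hN₂⟩ := IsArtinian.monotone_stabilizes
    ⟨(fun n => OrderDual.toDual (augIdeal K A ^ n)), fun a b h => Ideal.pow_le_pow_right h⟩
  let N := N₁ + N₂ + 1
  have hN : nilradical A ^ N = ⊥ := by
    have : N = N₁ + (N₂ + 1) := by omega
    rw [this, pow_add, hN₁]; simp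
  have hstab : augIdeal K A ^ N = augIdeal K A ^ (N + N) := by
    have h1 : augIdeal K A ^ N₂ = augIdeal K A ^ N := hN₂ N (by omega)
    have h2 : augIdeal K A ^ N₂ = augIdeal K A ^ (N + N) := hN₂ (N + N) (by omega)
    rw [← h1, h2]
  have : (augIdeal K A ^ N).IsHopfIdeal K := isHopfIdeal_pow N (by omega) hstab
  have hnil : IsNilpotent (augIdeal K (A ⧸ augIdeal K A ^ N)) := by
    refine ⟨N, ?_⟩
    rw [Ideal.zero_eq_bot, eq_bot_iff]
    refine (Ideal.pow_right_mono (augIdeal_quot_le _) N).trans ?_
    rw [← Ideal.map_pow, Ideal.map_quotient_self]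
  have hrank := finrank_eq_card_mul (K := K) (A := A) N hN
  have hcard : Nat.card (WithConv (A →ₐ[K] K)) = Nat.card (PrimeSpectrum A) := by
    rw [Nat.card_congr (WithConv.equiv _), Nat.card_eq_of_bijective _ (bijective_ker K A)]
    exact Nat.card_congr (IsArtinianRing.primeSpectrumEquivMaximalSpectrum (R := A)).symm
  have hcard0 : Nat.card (PrimeSpectrum A) ≠ 0 := by
    have : Nonempty (A →ₐ[K] K) := ⟨Bialgebra.counitAlgHom K A⟩
    have : Nontrivial A := (Bialgebra.counitAlgHom K A).toRingHom.domain_nontrivial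
    exact Nat.card_ne_zero.mpr ⟨inferInstance, inferInstance⟩
  refine ⟨?_, hcard0⟩
  rw [hcard] at hrank
  have hm : padicValNat l (Module.finrank K (A ⧸ augIdeal K A ^ N)) = 0 ∧
      Module.finrank K (A ⧸ augIdeal K A ^ N) ≠ 0 := by
    rcases CharP.exists' K with hchar | ⟨p, hp, hchar⟩
    · have h1 : augIdeal K (A ⧸ augIdeal K A ^ N) = ⊥ := augIdeal_eq_bot_of_charZero _ hnil
      rw [finrank_eq_one_of_augIdeal h1]
      simp
    · obtain ⟨s, hs⟩ := exists_finrank_eq_pow p _ (A ⧸ augIdeal K A ^ N) hnil rfl
      rw [hs]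
      refine ⟨?_, pow_ne_zero _ hp.out.ne_zero⟩
      apply padicValNat.eq_zero_of_not_dvd
      intro hd
      have h2 : l ∣ p := hl.out.dvd_of_dvd_pow hd
      have h3 : l = p := (Nat.prime_dvd_prime_iff_eq hl.out hp.out).mp h2
      exact hlK (by rw [h3]; exact CharP.cast_eq_zero K p)
  rw [hrank, padicValNat.mul hcard0 hm.2, hm.1, add_zero]

/-- A finite morphism between irreducible schemes of the same dimension is surjective. -/
theorem surjective_of_isFinite {X Y : Scheme.{u}} [IrreducibleSpace X] [IrreducibleSpace Y] (f : X ⟶ Y) [IsFinite f]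
    (n : ℕ) (hX : topologicalKrullDim X = n) (hY : topologicalKrullDim Y = n) : Surjective f := by
  constructor
  rw [← Set.range_eq_univ]
  by_contra hne
  have hcl : IsClosed (Set.range f) := f.isClosedMap.isClosed_range
  have h1 := Pi1C.LefReduce.dim_closure_eq f (genericPoint X)
  have h2 : topologicalKrullDim (closure ({genericPoint X} : Set X)) = n := by
    rw [genericPoint_closure, ← hX]
    exact IsHomeomorph.topologicalKrullDim_eq _ (Homeomorph.Set.univ X).isHomeomorph
  have h3 : closure ({f (genericPoint X)} : Set Y) = Set.range f := by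
    rw [← Set.image_singleton, f.isClosedMap.closure_image_eq_of_continuous f.continuous, genericPoint_closure,
      Set.image_univ]
  rw [h2, h3] at h1
  have h4 := Fga.DimLt.exists_ltSeries_succ hcl hne h1.le
  rw [hY] at h4
  have h5 : n + 1 ≤ n := by exact_mod_cast h4
  omega

variable {K : Type u} [Field K] [IsAlgClosed K]

/-- Points of a finite `K`-scheme. -/
theorem card_pt (N : Over (Spec (CommRingCat.of K))) [IsFinite N.hom] :
    Nat.card (𝟙_ (Over (Spec (CommRingCat.of K))) ⟶ N) = Nat.card N.left := by
  apply Nat.card_eq_of_bijective (fun x => pt x)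
  have hd : DiscreteTopology N.left := by
    have h1 := N.hom.isDiscrete_preimage_singleton (IsLocalRing.closedPoint K)
    have hsub : Subsingleton ↥(Spec (CommRingCat.of K)) := inferInstanceAs (Subsingleton (PrimeSpectrum K))
    have h2 : _root_.IsDiscrete (Set.univ : Set N.left) := by
      convert h1 using 1
      exact Set.ext fun z => ⟨fun _ => Subsingleton.elim (N.hom z) _, fun _ => trivial⟩
    exact isDiscrete_univ_iff.mp h2
  exact ⟨fun x y h => pt_injective h, fun z => exists_pt z (isClosed_discrete _)⟩

/-- `v_l (deg α) = v_l (# ker α (K))`. -/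
theorem padicValNat_finrank (l : ℕ) [Fact l.Prime] (hlK : (l : K) ≠ 0)
    {A B : Over (Spec (CommRingCat.of K))} [GrpObj A] [GrpObj B] (α : A ⟶ B) [IsMonHom α] [IsFinite α.left]
    [Flat α.left] [LocallyOfFinitePresentation α.left] [ConnectedSpace B.left] (b : B.left) :
    padicValNat l (Scheme.Hom.finrank α.left b) =
      padicValNat l (Nat.card {x : 𝟙_ (Over (Spec (CommRingCat.of K))) ⟶ A // x ≫ α = 1}) ∧
      Nat.card {x : 𝟙_ (Over (Spec (CommRingCat.of K))) ⟶ A // x ≫ α = 1} ≠ 0 := by
  obtain ⟨F, hF, i, hi, hpb⟩ := Grpsch.KerMul.exists_kernel α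
  have hpb' : IsPullback i.left F.hom α.left η[B].left := by
    have := hpb.map (Over.forget _)
    exact this
  have hFfin : IsFinite F.hom := MorphismProperty.of_isPullback hpb' inferInstance
  have hFaff : IsAffine F.left := isAffine_of_isAffineHom F.hom
  obtain ⟨R, _, _, ⟨w⟩⟩ := Grpsch.AffHopf.exists_hopfAlgebra K F
  have hBalg : Spec.map (CommRingCat.ofHom (algebraMap K R)) = w.inv.left ≫ F.hom :=
    (Over.w w.inv).symm
  have hwinv : IsIso w.inv.left := inferInstanceAs (IsIso ((Over.forget _).map w.inv))
  have hwhom : IsIso w.hom.left := inferInstanceAs (IsIso ((Over.forget _).map w.hom))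
  have hBfin : Module.Finite K R := by
    have h1 : IsFinite (Spec.map (CommRingCat.ofHom (algebraMap K R))) := by
      rw [hBalg]
      infer_instance
    rw [IsFinite.SpecMap_iff] at h1
    exact RingHom.finite_algebraMap.mp h1
  have hFflat : Flat F.hom := MorphismProperty.of_isPullback hpb' inferInstance
  have hconst : Scheme.Hom.finrank α.left b = Scheme.Hom.finrank α.left (η[B].left (IsLocalRing.closedPoint K)) := by
    have h1 := Scheme.Hom.isLocallyConstant_finrank α.left
    exact h1.apply_eq_of_preconnectedSpace _ _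
  have hrank : Module.finrank K R = Scheme.Hom.finrank α.left b := by
    have h1 := Scheme.Hom.finrank_SpecMap_algebraMap K R (IsLocalRing.closedPoint K)
    rw [hBalg, Scheme.Hom.finrank_comp_left_of_isIso, Module.rankAtStalk_eq_finrank_of_free] at h1
    have h2 := Scheme.Hom.finrank_of_isPullback i.left F.hom α.left η[B].left hpb'
      (IsLocalRing.closedPoint K)
    rw [hconst, ← h2]
    exact h1.symm
  have hcard : Nat.card {x : 𝟙_ (Over (Spec (CommRingCat.of K))) ⟶ A // x ≫ α = 1} = Nat.card (PrimeSpectrum R) := by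
    have e : F.left ≃ PrimeSpectrum R := w.hom.left.homeomorph.toEquiv
    rw [← Nat.card_congr e, ← card_pt F]
    symm
    refine Nat.card_eq_of_bijective (fun y => ⟨y ≫ i, ?_⟩) ⟨?_, ?_⟩
    · rw [Category.assoc, hpb.w, ← Category.assoc, Hom.one_def]
      congr 1
      exact toUnit_unique _ _
    · intro y z hyz
      exact hpb.hom_ext (congrArg Subtype.val hyz) (toUnit_unique _ _)
    · rintro ⟨x, hx⟩
      refine ⟨hpb.lift x (toUnit _) (by rw [hx, Hom.one_def]), ?_⟩
      exact Subtype.ext (hpb.lift_fst _ _ _)
  rw [← hrank, hcard]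
  exact padicValNat_finrank_hopf l hlK R

end K519.DegKer
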