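import Groth.Agent.AbDual.K732.Bidual
import Groth.Agent.AbDual.K732.AV
import Groth.Agent.AbVar.K528.MumZero
import Groth.Agent.AbVar.K512.PhiSurj
import Groth.Agent.Sga7.H756.RevIsog
import Groth.Agent.Sga3.H794.ChevKer
import Groth.Agent.AbVar.K518.Points
import Groth.Agent.AbVar.K518.Phi

/-!
# `φ_L` and the Poincaré class of an abelian variety over an algebraically closed field
-/

set_option autoImplicit false
set_option linter.unusedSectionVars false

universe u

open CategoryTheory MonoidalCategory CartesianMonoidalCategory AlgebraicGeometry Limits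
open scoped MonObj
open Groth.Agent.Grpsch.PicGrp Groth.Agent.Grpsch.Cube Groth.Agent.Fga.RigGrp

namespace K519.DualCalc

open K732.Dual K732.Transp K732.Prim K732.Bidual K732.PicZero K732.AV K518.Phi K528.MumZero

variable {k : Type u} [Field k] [IsAlgClosed k] {A At : Over (Spec (CommRingCat.of k))}
  [GrpObj A] [IsCommMonObj A] [IsProper A.hom] [GeometricallyIntegral A.hom]

theorem ev_mum (c : Pic A.left) {W : Over (Spec (CommRingCat.of k))} (a b : W ⟶ A) :
    ev a b (mumCl A c) = K518.Phi.D c a b := pull_lift_mumCl A c a b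

/-- Geometrically integral morphisms are geometrically connected. -/
theorem geomConn {A B : Scheme.{u}} (f : A ⟶ B) [hf : GeometricallyIntegral f] :
    GeometricallyConnected f := by
  refine ⟨fun K _ y Z g h hp ↦ ?_⟩
  have h1 : IsIntegral Z := hf.geometrically_isIntegral y g h hp
  exact (inferInstance : ConnectedSpace Z)

theorem mum_mem_pz (c : Pic A.left) : mumCl A c ∈ pz A.hom A := by
  have := geomConn A.hom
  exact isPicZeroCl_iff.1 ((K530.PicZero.isPicZeroCl_toCl_iff _ _ _).2 (fibZero_mumCl A c))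

theorem mum_mem_rg (c : Pic A.left) : mumCl A c ∈ rg A A :=
  mem_rg_iff.2 (by rw [ev_mum, D_one_left])

variable [GrpObj At] [IsCommMonObj At] [IsProper At.hom] [GeometricallyIntegral At.hom]
  {φ : ∀ T : Over (Spec (CommRingCat.of k)), PicF.Cl (PicF.XT A.hom T) → (T ⟶ At)}

/-- The homomorphism `φ_c : A ⟶ Â`. -/
noncomputable def lam (φ : ∀ T : Over (Spec (CommRingCat.of k)), PicF.Cl (PicF.XT A.hom T) → (T ⟶ At))
    (c : Pic A.left) : A ⟶ At := cm φ (mumCl A c)

theorem lam_of_isLambda {M : A.left.Modules} (hM : PicF.IsInvertible M) {lm : A ⟶ At}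
    (h : AgPol.IsLambda A At φ M lm) : lm = lam φ (mk M hM) := by
  obtain ⟨N, hN, hs, rfl⟩ := h
  rw [lam, cm, ← mk_eq_mumCl A hM hN hs]
  rfl

variable (hD : AbDual.IsDualAV Scheme.fppfPrecoverage A At φ)

theorem hF : ∀ T : Over (Spec (CommRingCat.of k)), Function.Bijective (PicF.XTproj A.hom T).appTop :=
  K732.CubeSec.bijective_XTproj A.hom

include hD in
theorem isMonHom_lam (c : Pic A.left) : IsMonHom (lam φ c) := by
  refine isMonHom_of_mul _ fun W a b => ?_
  rw [lam, ← cm_pull hD _ (mum_mem_pz c), ← cm_pull hD _ (mum_mem_pz c), ← cm_pull hD _ (mum_mem_pz c),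
    ← cm_mul hD (pull_XTmap_mem _ (mum_mem_pz c)) (pull_XTmap_mem _ (mum_mem_pz c))]
  congr 1
  refine ext_ev fun W x g => ?_
  rw [map_mul, ev_XTmap, ev_XTmap, ev_XTmap, ev_mum, ev_mum, ev_mum, MonObj.comp_mul, D_mul_right]

section Poincare

variable {ζ : Pic (PicF.XT A.hom At)} (h1 : ζ ∈ pz A.hom At) (h2 : ζ ∈ rg A At) (h3 : cm φ ζ = 𝟙 At)

include hD h1 h2 h3

/-- `ξ(a, φ_c b) = D_c(a, b)`. -/
theorem ev_lam (c : Pic A.left) {W : Over (Spec (CommRingCat.of k))} (a b : W ⟶ A) :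
    ev a (b ≫ lam φ c) ζ = K518.Phi.D c a b := by
  have h := eq_pull_poinc hD hF h1 h2 h3 (mum_mem_pz c) (mum_mem_rg c)
  rw [← ev_mum, h, ev_XTmap]
  rfl

theorem pull_mul {T : Over (Spec (CommRingCat.of k))} (y y' : T ⟶ At) :
    pull (PicF.XTmap A.hom (y * y')) ζ = pull (PicF.XTmap A.hom y) ζ * pull (PicF.XTmap A.hom y') ζ := by
  refine cm_inj hD hF (pull_XTmap_mem _ h1) (mul_mem (pull_XTmap_mem _ h1) (pull_XTmap_mem _ h1)) (pull_mem _ h2)
    (mul_mem (pull_mem _ h2) (pull_mem _ h2)) ?_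
  rw [cm_mul hD (pull_XTmap_mem _ h1) (pull_XTmap_mem _ h1), cm_pull hD _ h1, cm_pull hD _ h1, cm_pull hD _ h1, h3,
    Category.comp_id, Category.comp_id, Category.comp_id]

theorem ev_mul_right {W : Over (Spec (CommRingCat.of k))} (a : W ⟶ A) (y y' : W ⟶ At) :
    ev a (y * y') ζ = ev a y ζ * ev a y' ζ := by
  have h := congrArg (ev a (𝟙 W)) (pull_mul hD h1 h2 h3 y y')
  rw [map_mul, ev_XTmap, ev_XTmap, ev_XTmap, Category.id_comp, Category.id_comp, Category.id_comp] at h
  exact h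

theorem ev_one_right {W : Over (Spec (CommRingCat.of k))} (a : W ⟶ A) : ev a (1 : W ⟶ At) ζ = 1 := by
  have h := ev_mul_right hD h1 h2 h3 a (1 : W ⟶ At) 1
  rw [_root_.mul_one] at h
  exact left_eq_mul.mp h

theorem ev_pow_right {W : Over (Spec (CommRingCat.of k))} (a : W ⟶ A) (y : W ⟶ At) (n : ℕ) :
    ev a (y ^ n) ζ = ev a y ζ ^ n := by
  induction n with
  | zero => rw [pow_zero, pow_zero, ev_one_right hD h1 h2 h3]
  | succ n ih => rw [pow_succ, pow_succ, ev_mul_right hD h1 h2 h3, ih]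

theorem phi_eq_one_of_comp_lam {c : Pic A.left} {x : Pt A} (h : x ≫ lam φ c = 1) : phi c x = 1 := by
  rw [← D_id_const, ← ev_lam hD h1 h2 h3, Category.assoc, h, MonObj.comp_one, ev_one_right hD h1 h2 h3]

end Poincare

include hD in
/-- Surjectivity of `φ_L` on points. -/
theorem exists_comp_lam_eq (L : A.left.Modules) (hL : CohB1.IsAmple L) (y : Pt At) :
    ∃ x : Pt A, x ≫ lam φ (mk L hL.1) = y := by
  have := geomConn A.hom
  have := geomConn At.hom
  obtain ⟨c, hc, hc', rfl⟩ := exists_cm hD hF y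
  let m : Pic A.left := ev (𝟙 A) (toUnit A) c
  have hm : ∀ x : Pt A, pl (tr x) m = m := by
    intro x
    have e1 : pl (tr x) m = ev (tr x ≫ 𝟙 A) (tr x ≫ toUnit A) c := pull_ev _ _ _ _
    have e2 : ev (toUnit A ≫ x) (toUnit A) c = 1 := by
      have e3 := pull_ev (toUnit A) x (𝟙 _) c
      rw [Category.comp_id] at e3
      rw [← e3]
      have e4 : ev x (𝟙 _) c = 1 := pic_spec_local k _
      rw [e4, map_one]
    rw [e1, Category.comp_id, toUnit_unique (tr x ≫ toUnit A) (toUnit A), prim hD hc hc', e2, _root_.mul_one]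
  obtain ⟨x, hx⟩ := K512.PhiSurj.exists_eq_of_isAmple L hL m hm
  refine ⟨x, ?_⟩
  rw [lam, ← cm_pull hD _ (mum_mem_pz _)]
  congr 1
  refine ext_ev fun W a g => ?_
  rw [ev_XTmap, ev_mum, toUnit_unique g (toUnit W), D_const_right]
  have e : phi (mk L hL.1) x = m := hx
  rw [e]
  have e1 : pl a m = ev (a ≫ 𝟙 A) (a ≫ toUnit A) c := pull_ev _ _ _ _
  rw [e1, Category.comp_id, toUnit_unique (a ≫ toUnit A) (toUnit W)]

include hD in
theorem finite_ker (L : A.left.Modules) (hL : CohB1.IsAmple L) : {x : Pt A | x ≫ lam φ (mk L hL.1) = 1}.Finite := by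
  obtain ⟨ζ, h1, h2, h3⟩ := exists_poinc hD hF
  refine (K512.PhiSurj.finite_of_isAmple L hL).subset fun x hx => ?_
  exact mul_inv_eq_one.mp (phi_eq_one_of_comp_lam hD h1 h2 h3 hx)

include hD in
theorem surjective_lam (L : A.left.Modules) (hL : CohB1.IsAmple L) : Surjective (lam φ (mk L hL.1)).left := by
  have hm := isMonHom_lam hD (mk L hL.1)
  have hw : (lam φ (mk L hL.1)).left ≫ At.hom = A.hom := Over.w _
  have hp : IsProper (lam φ (mk L hL.1)).left := by
    have : IsProper ((lam φ (mk L hL.1)).left ≫ At.hom) := by rw [hw]; infer_instance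
    exact IsProper.of_comp _ At.hom
  constructor
  rw [← Set.range_eq_univ]
  have hcl : IsClosed (Set.range (lam φ (mk L hL.1)).left) :=
    (lam φ (mk L hL.1)).left.isClosedMap.isClosed_range
  have : JacobsonSpace At.left := LocallyOfFiniteType.jacobsonSpace (Y := Spec _) At.hom
  have hd : closedPoints At.left ⊆ Set.range (lam φ (mk L hL.1)).left := by
    intro b hb
    obtain ⟨y, hy⟩ := K518.Phi.exists_pt b hb
    obtain ⟨x, hx⟩ := exists_comp_lam_eq hD L hL y
    refine ⟨K518.Points.pt x, ?_⟩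
    rw [← K518.Points.pt_comp, hx]
    exact hy
  exact Set.eq_univ_of_univ_subset (by rw [← closure_closedPoints (X := At.left)]; exact hcl.closure_subset_iff.mpr hd)

include hD in
/-- `φ_L` has a quasi-inverse. -/
theorem exists_quasi (L : A.left.Modules) (hL : CohB1.IsAmple L) : ∃ (n : ℕ) (ψ : At ⟶ A), 1 ≤ n ∧ IsMonHom ψ ∧
    lam φ (mk L hL.1) ≫ ψ = 𝟙 A ^ n ∧ ψ ≫ lam φ (mk L hL.1) = 𝟙 At ^ n := by
  have hm := isMonHom_lam hD (mk L hL.1)
  have hqc : QuasiCompact (lam φ (mk L hL.1)).left := Groth.Agent.Sga7.H756.RevIsog.quasiCompact_left k _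
  have hfin : IsFinite (lam φ (mk L hL.1)).left :=
    Groth.Agent.Sga3.H794.ChevKer.isFinite_of_finite_ker _ (finite_ker hD L hL)
  refine Groth.Agent.Sga7.H756.RevIsog.exists_rev k _ ⟨surjective_lam hD L hL, fun N i hN => ?_⟩
  exact MorphismProperty.of_isPullback (P := @IsFinite) (hN.map (Over.forget _)) hfin

end K519.DualCalc
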