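import Mathlib

/-!
# Counting lemmas for groups
-/

set_option autoImplicit false

namespace K519.GrpCount

section

variable {G H W : Type*} [AddCommGroup G] [AddCommGroup H] [AddCommGroup W]

theorem index_eq_card (α : G →+ H) (Gn : AddSubgroup G) (Hn : AddSubgroup H)
    (hcard : Nat.card Gn = Nat.card Hn) (h0 : Nat.card Hn ≠ 0) (cW : W →+ H) (hr : cW.range = Hn)
    (R : AddSubgroup W) (hker : cW.ker ≤ R) (hR : R.map cW = Gn.map α) :
    R.index = Nat.card (α.ker ⊓ Gn : AddSubgroup G) := by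
  have hle : Gn.map α ≤ Hn := by
    rw [← hR, ← hr]
    exact AddSubgroup.map_le_range cW R
  have h1 : R.index = (Gn.map α).relIndex Hn := by
    rw [← hR, ← hr, ← AddSubgroup.index_comap, AddSubgroup.comap_map_eq_self hker]
  have h2 : Nat.card (Gn.map α) * (Gn.map α).relIndex Hn = Nat.card Hn := by
    rw [← AddSubgroup.relIndex_bot_left, ← AddSubgroup.relIndex_bot_left]
    exact AddSubgroup.relIndex_mul_relIndex _ _ _ bot_le hle
  have h3 : Nat.card (α.ker ⊓ Gn : AddSubgroup G) * Nat.card (Gn.map α) = Nat.card Gn := by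
    rw [← AddSubgroup.relIndex_ker, ← AddSubgroup.inf_relIndex_right, ← AddSubgroup.relIndex_bot_left,
      ← AddSubgroup.relIndex_bot_left]
    exact AddSubgroup.relIndex_mul_relIndex _ _ _ bot_le inf_le_right
  have h4 : Nat.card (Gn.map α) ≠ 0 := by
    intro h5
    rw [h5, zero_mul] at h2
    exact h0 h2.symm
  have h5 : Nat.card (Gn.map α) * R.index = Nat.card (Gn.map α) * Nat.card (α.ker ⊓ Gn : AddSubgroup G) := by
    rw [h1, h2, ← hcard, ← h3, mul_comm]
  exact Nat.eq_of_mul_eq_mul_left (Nat.pos_of_ne_zero h4) h5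

end

/-- The `l`-primary part of a finite commutative group. -/
theorem card_torsion_eq {F : Type*} [CommGroup F] [Finite F] (l : ℕ) [hl : Fact l.Prime] (n : ℕ)
    (hn : padicValNat l (Nat.card F) ≤ n) :
    Nat.card (powMonoidHom (l ^ n) : F →* F).ker = l ^ padicValNat l (Nat.card F) := by
  set a := padicValNat l (Nat.card F) with ha
  have hp : IsPGroup l (powMonoidHom (l ^ n) : F →* F).ker := by
    intro x
    exact ⟨n, Subtype.ext x.2⟩
  obtain ⟨b, hb⟩ := hp.exists_card_eq
  have hdvd : Nat.card (powMonoidHom (l ^ n) : F →* F).ker ∣ Nat.card F := Subgroup.card_subgroup_dvd_card _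
  rw [hb] at hdvd ⊢
  have hF : Nat.card F ≠ 0 := Nat.card_pos.ne'
  have hba : b ≤ a := (padicValNat_dvd_iff_le hF).mp hdvd
  obtain ⟨P, hP⟩ := Sylow.exists_subgroup_card_pow_prime l (pow_padicValNat_dvd : l ^ padicValNat l (Nat.card F) ∣ Nat.card F)
  have hPle : P ≤ (powMonoidHom (l ^ n) : F →* F).ker := by
    intro x hx
    rw [MonoidHom.mem_ker, powMonoidHom_apply]
    have h1 : (⟨x, hx⟩ : P) ^ Nat.card P = 1 := pow_card_eq_one'
    have h2 : x ^ (l ^ a) = 1 := by
      rw [hP] at h1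
      exact congrArg Subtype.val h1
    obtain ⟨c, hc⟩ := pow_dvd_pow l hn
    rw [hc, pow_mul, h2, one_pow]
  have h3 := Subgroup.card_dvd_of_le hPle
  rw [hP, hb] at h3
  have h4 : a ≤ b := (Nat.pow_dvd_pow_iff_le_right hl.out.one_lt).mp h3
  rw [le_antisymm hba h4]

end K519.GrpCount
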