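import Groth.Agent.AbVar.K519.SubAV
import Groth.Agent.AbVar.K519.Tate
import Groth.Agent.Sga7.H515.FKGen
import Groth.Agent.Sga3.H794.ChevKer
import Groth.Agent.Sga3.H794.ChevProper
import Groth.Agent.Etcore.AbTors
import Groth.Agent.S0383
import Groth.Prelude.Def_EndTate

/-!
# Finite kernel and injectivity on the Tate module
-/

set_option autoImplicit false

universe u

open CategoryTheory MonoidalCategory CartesianMonoidalCategory MonObj GrpObj AlgebraicGeometry Limits

namespace K519.KerFinite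

open Groth.Agent Books.AlgPts Books.AlgPtsGrp AbDual

variable {k : Type u} [Field k] [IsAlgClosed k]

/-- The group of `k`-points of an abelian variety is divisible. -/
theorem exists_pow_eq (A : Over (Spec (CommRingCat.of k))) [GrpObj A] [IsProper A.hom] [GeometricallyIntegral A.hom]
    (n : ℕ) (hn : 1 ≤ n) (y : (Over.mk (𝟙 (Spec (CommRingCat.of k)))) ⟶ A) :
    ∃ x : (Over.mk (𝟙 (Spec (CommRingCat.of k)))) ⟶ A, x ^ n = y := by
  have h1 : Surjective ((𝟙 A ^ n).left) := S0383.result k A n hn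
  obtain ⟨x, hx⟩ := exists_comp_eq_of_pt_mem_range (𝟙 A ^ n)
    (y : 𝟙_ (Over (Spec (CommRingCat.of k))) ⟶ A) (h1.surj _)
  refine ⟨x, ?_⟩
  rw [MonObj.comp_pow, Category.comp_id] at hx
  exact hx

/-- An abelian variety of positive dimension has a nontrivial point of order `l` (`l` invertible). -/
theorem exists_torsion_ne_one (A : Over (Spec (CommRingCat.of k))) [GrpObj A] [IsProper A.hom]
    [GeometricallyIntegral A.hom] (l : ℕ) (hl1 : 1 < l) (hl : (l : k) ≠ 0) (hd : topologicalKrullDim A.left ≠ 0) :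
    ∃ x : (Over.mk (𝟙 (Spec (CommRingCat.of k)))) ⟶ A, x ^ l = 1 ∧ x ≠ 1 := by
  have hint : IsIntegral A.left := GeometricallyIntegral.isIntegral_of_subsingleton A.hom
  obtain ⟨g, hg⟩ := Sga7.H515.FKGen.exists_dim A.hom
  have hg0 : g ≠ 0 := by
    rintro rfl
    exact hd (by simpa using hg)
  have h1 := Etcore.AbTors.card_torsion A g hg l hl
  have h2 : 1 < l ^ (2 * g) := Nat.one_lt_pow (by omega) hl1
  have h3 : Finite {x : Over.mk (𝟙 (Spec (CommRingCat.of k))) ⟶ A // x ^ l = 1} :=
    Nat.finite_of_card_ne_zero (by rw [h1]; omega)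
  have h4 : Nontrivial {x : Over.mk (𝟙 (Spec (CommRingCat.of k))) ⟶ A // x ^ l = 1} := by
    rw [← Finite.one_lt_card_iff_nontrivial, h1]; exact h2
  obtain ⟨x, hx⟩ := exists_ne (⟨1, one_pow l⟩ : {x : Over.mk (𝟙 (Spec (CommRingCat.of k))) ⟶ A // x ^ l = 1})
  exact ⟨x.1, x.2, fun h => hx (Subtype.ext h)⟩

/-- The statement of S15671. -/
theorem isFinite_iff_injective (l : ℕ) [hlp : Fact l.Prime]
    (hl : (l : k) ≠ 0) (A B : Over (Spec (CommRingCat.of k)))
    [GrpObj A] [IsCommMonObj A] [IsProper A.hom] [GeometricallyIntegral A.hom]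
    [GrpObj B] [IsCommMonObj B] [IsProper B.hom] [GeometricallyIntegral B.hom]
    (α : A ⟶ B) [IsMonHom α] :
    IsFinite α.left ↔ Function.Injective (AbDual.tateMapₗ (l := l) (T := (Over.mk (𝟙 (Spec (CommRingCat.of k))))) α) := by
  constructor
  · intro h
    exact Tate.tateMapₗ_injective_of_finite α (Sga3.H794.ChevProper.finite_ker_of_isFinite α 1)
  · intro h
    by_contra hfin
    obtain ⟨U, hU, u, hu, hcl, hmono, hUp, hUs, hUg, huα, hd⟩ := SubAV.exists_subAV α hfin
    have hUc : IsCommMonObj U := isCommMonObj_of_isProper_of_geometricallyIntegral U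
    obtain ⟨x, hx1, hx2⟩ := exists_torsion_ne_one U l hlp.out.one_lt hl hd
    obtain ⟨y, hy⟩ := Tate.exists_apply_eq (exists_pow_eq U l hlp.out.one_lt.le) 1 x (by rwa [pow_one])
    have hy0 : y ≠ 0 := by
      rintro rfl
      apply hx2
      have h2 : (0 : Additive (Over.mk (𝟙 (Spec (CommRingCat.of k))) ⟶ U)) = Additive.ofMul x := hy
      exact (Additive.ofMul.injective h2).symm
    have h3 : tateMapₗ (l := l) (T := (Over.mk (𝟙 (Spec (CommRingCat.of k))))) α (tateMapₗ u y) = 0 := by
      refine TateMod.ext fun n => ?_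
      rw [Tate.tateMapₗ_apply, Tate.tateMapₗ_apply]
      change Additive.ofMul ((((y : ℕ → Additive (Over.mk (𝟙 (Spec (CommRingCat.of k))) ⟶ U)) n).toMul ≫ u) ≫ α) = _
      rw [Category.assoc, huα, MonObj.comp_one]
      rfl
    have h4 : tateMapₗ (l := l) (T := (Over.mk (𝟙 (Spec (CommRingCat.of k))))) u y = 0 := h (by rw [h3, map_zero])
    exact hy0 (Tate.tateMapₗ_injective_of_mono u (by rw [h4, map_zero]))

end K519.KerFinite
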