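import Groth.Agent.AbVar.K519.TateDet
import Groth.Agent.AbVar.K519.CharAlg
import Groth.Agent.Etdl.H427.RankComp
import Groth.Agent.S1842

/-!
# The degree function on homomorphisms of abelian varieties of the same dimension

`nu f` is the degree of `f` if `f` is finite and `0` otherwise; `nu_comp`, `nu_zpow`, `norm_nu_eq`.
-/

set_option autoImplicit false
set_option linter.unusedSectionVars false

universe u

open CategoryTheory MonoidalCategory CartesianMonoidalCategory MonObj GrpObj AlgebraicGeometry Limits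

namespace K519.Nu

open Groth.Agent Books.AlgPts Books.AlgPtsGrp AbDual

variable {k : Type u} [Field k] [IsAlgClosed k]

/-- The degree of `f` if `f` is finite and `0` otherwise. -/
noncomputable def nu {A B : Over (Spec (CommRingCat.of k))} [GrpObj B] (f : A ⟶ B) : ℕ := by
  classical exact if IsFinite f.left then Scheme.Hom.finrank f.left (pt η[B]) else 0

section

variable {A B C : Over (Spec (CommRingCat.of k))} [GrpObj A] [IsProper A.hom] [GeometricallyIntegral A.hom]
  [GrpObj B] [IsProper B.hom] [GeometricallyIntegral B.hom] [GrpObj C] [IsProper C.hom] [GeometricallyIntegral C.hom]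

theorem nu_of_not_isFinite (f : A ⟶ B) (h : ¬ IsFinite f.left) : nu f = 0 := by
  rw [nu, if_neg h]

theorem finrank_eq_nu (r : ℕ) (hA : topologicalKrullDim A.left = r) (hB : topologicalKrullDim B.left = r) (f : A ⟶ B)
    [IsMonHom f] [IsFinite f.left] (b : B.left) : Scheme.Hom.finrank f.left b = nu f := by
  obtain ⟨hs, hf, hfp⟩ := TateDet.surj_flat r hA hB f
  have hBi : IsIntegral B.left := GeometricallyIntegral.isIntegral_of_subsingleton B.hom
  rw [nu, if_pos ‹_›]
  exact (Scheme.Hom.isLocallyConstant_finrank f.left).apply_eq_of_preconnectedSpace _ _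

theorem nu_pos (r : ℕ) (hA : topologicalKrullDim A.left = r) (hB : topologicalKrullDim B.left = r) (f : A ⟶ B)
    [IsMonHom f] [IsFinite f.left] : 0 < nu f := by
  obtain ⟨hs, hf, hfp⟩ := TateDet.surj_flat r hA hB f
  rw [← finrank_eq_nu r hA hB f (f.left (pt η[A]))]
  exact Scheme.Hom.one_le_finrank_map f.left _

theorem nu_ne_zero_iff (r : ℕ) (hA : topologicalKrullDim A.left = r) (hB : topologicalKrullDim B.left = r) (f : A ⟶ B)
    [IsMonHom f] : nu f ≠ 0 ↔ IsFinite f.left := by
  constructor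
  · intro h
    by_contra h1
    exact h (nu_of_not_isFinite f h1)
  · intro h
    exact (nu_pos r hA hB f).ne'

theorem isFinite_left_of_comp (f : A ⟶ B) (g : B ⟶ C) (h : IsFinite (f ≫ g).left) : IsFinite f.left := by
  rw [Over.comp_left] at h
  have h1 : IsSeparated (g.left ≫ C.hom) := by rw [Over.w]; infer_instance
  have h2 : IsSeparated g.left := IsSeparated.of_comp g.left C.hom
  exact IsFinite.of_comp f.left g.left

theorem isFinite_right_of_comp (f : A ⟶ B) [IsMonHom f] (g : B ⟶ C) [IsMonHom g] (hf : Surjective f.left)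
    (h : IsFinite (f ≫ g).left) : IsFinite g.left := by
  have hqc : QuasiCompact g.left := Sga7.H756.RevIsog.quasiCompact_left k g
  apply Sga3.H794.ChevKer.isFinite_of_finite_ker g
  have h1 := Sga3.H794.ChevProper.finite_ker_of_isFinite (f ≫ g) 1
  refine (h1.image (fun t => t ≫ f)).subset ?_
  intro x hx
  obtain ⟨y, hy⟩ := exists_comp_eq_of_pt_mem_range f x (hf.surj _)
  refine ⟨y, ?_, hy⟩
  change y ≫ f ≫ g = 1
  rw [← Category.assoc, hy]
  exact hx

theorem nu_comp (r : ℕ) (hA : topologicalKrullDim A.left = r) (hB : topologicalKrullDim B.left = r)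
    (hC : topologicalKrullDim C.left = r) (f : A ⟶ B) [IsMonHom f] (g : B ⟶ C) [IsMonHom g] :
    nu (f ≫ g) = nu f * nu g := by
  by_cases hfg : IsFinite (f ≫ g).left
  · have hf : IsFinite f.left := isFinite_left_of_comp f g hfg
    obtain ⟨hs, hff, hfp⟩ := TateDet.surj_flat r hA hB f
    have hg : IsFinite g.left := isFinite_right_of_comp f g hs hfg
    obtain ⟨hs', hff', hfp'⟩ := TateDet.surj_flat r hB hC g
    rw [← finrank_eq_nu r hA hC (f ≫ g) (pt η[C]), ← finrank_eq_nu r hB hC g (pt η[C]), Over.comp_left]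
    exact Etdl.H427.RankComp.finrank_comp f.left g.left (nu f) (finrank_eq_nu r hA hB f) _
  · rw [nu_of_not_isFinite _ hfg]
    by_cases hf : IsFinite f.left
    · have hg : ¬ IsFinite g.left := by
        intro hg
        apply hfg
        rw [Over.comp_left]
        infer_instance
      rw [nu_of_not_isFinite _ hg, mul_zero]
    · rw [nu_of_not_isFinite _ hf, zero_mul]

theorem nu_id (r : ℕ) (hA : topologicalKrullDim A.left = r) : nu (𝟙 A) = 1 := by
  have h1 := nu_comp r hA hA hA (𝟙 A) (𝟙 A)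
  rw [Category.comp_id] at h1
  have h2 : IsFinite (𝟙 A : A ⟶ A).left := by rw [Over.id_left]; infer_instance
  have h3 := nu_pos r hA hA (𝟙 A)
  exact (Nat.eq_of_mul_eq_mul_left h3 (by rw [_root_.mul_one]; exact h1)).symm

/-- The trivial homomorphism is finite only in dimension zero. -/
theorem not_isFinite_one [IsCommMonObj A] [IsCommMonObj B] (hA : topologicalKrullDim A.left ≠ 0) :
    ¬ IsFinite (1 : A ⟶ B).left := by
  intro h
  have h1 := Sga3.H794.ChevProper.finite_ker_of_isFinite (1 : A ⟶ B) 1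
  obtain ⟨l, hlp, hl⟩ : ∃ l : ℕ, l.Prime ∧ (l : k) ≠ 0 := by
    rcases CharP.exists' k with hchar | ⟨p, hp, hchar⟩
    · exact ⟨2, Nat.prime_two, by exact_mod_cast two_ne_zero (α := k)⟩
    · obtain ⟨l, hl1, hl2⟩ := Nat.exists_infinite_primes (p + 1)
      refine ⟨l, hl2, fun h2 => ?_⟩
      have h3 := (CharP.cast_eq_zero_iff k p l).mp h2
      have h4 := (Nat.prime_dvd_prime_iff_eq hp.out hl2).mp h3
      omega
  have : Fact l.Prime := ⟨hlp⟩
  obtain ⟨x, hx1, hx2⟩ := KerFinite.exists_torsion_ne_one A l hlp.one_lt hl hA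
  obtain ⟨y, hy⟩ := Tate.exists_apply_eq (KerFinite.exists_pow_eq A l hlp.one_lt.le) 1 x (by rwa [pow_one])
  have hm : IsMonHom (1 : A ⟶ B) := EndAV.Hom.isMonHom_toHom (0 : EndAV.Hom A B)
  have hinj := Tate.tateMapₗ_injective_of_finite (l := l) (T := Over.mk (𝟙 (Spec (CommRingCat.of k)))) (1 : A ⟶ B) h1
  have hy0 : y = 0 := by
    apply hinj
    rw [map_zero]
    refine TateMod.ext fun n => ?_
    rw [Tate.tateMapₗ_apply, MonObj.comp_one]
    rfl
  rw [hy0] at hy
  exact hx2 (Additive.ofMul.injective hy).symm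

theorem nu_zpow [IsCommMonObj A] (r : ℕ) (hA : topologicalKrullDim A.left = r) (n : ℤ) :
    nu (𝟙 A ^ n) = n.natAbs ^ (2 * r) := by
  by_cases hn : n = 0
  · subst hn
    rw [zpow_zero, Int.natAbs_zero]
    rcases Nat.eq_zero_or_pos r with rfl | hr
    · have h1 : (1 : A ⟶ A) = 𝟙 A := Sga7.H5.AVZero.eq_of_dim_zero A (by simpa using hA) _ _
      rw [h1, nu_id 0 hA, mul_zero, pow_zero]
    · rw [zero_pow (by omega)]
      apply nu_of_not_isFinite
      apply not_isFinite_one
      rw [hA]
      exact_mod_cast hr.ne'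
  · obtain ⟨h1, h2, h3⟩ := S1842.result k A r hA n hn
    rw [nu, if_pos h1]
    exact h3 _

/-- The degree is determined by the values demanded in the statements. -/
theorem eq_nu (r : ℕ) (hA : topologicalKrullDim A.left = r) (hB : topologicalKrullDim B.left = r) (f : A ⟶ B)
    [IsMonHom f] (c : ℚ) (h1 : IsFinite f.left → ∀ b : B.left, (Scheme.Hom.finrank f.left b : ℚ) = c)
    (h2 : ¬ IsFinite f.left → c = 0) : (nu f : ℚ) = c := by
  by_cases hf : IsFinite f.left
  · rw [← h1 hf (pt η[B]), finrank_eq_nu r hA hB f]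
  · rw [nu_of_not_isFinite f hf, h2 hf, Nat.cast_zero]

/-- `‖deg f‖ = ‖det T_l f‖` in `ℚ_l`. -/
theorem norm_nu_eq [IsCommMonObj A] (l : ℕ) [hlp : Fact l.Prime] (hl : (l : k) ≠ 0)
    (r : ℕ) (hA : topologicalKrullDim A.left = r) (f : A ⟶ A) [IsMonHom f]
    [Module.Free ℤ_[l] (TateMod A l (Over.mk (𝟙 (Spec (CommRingCat.of k)))))]
    [Module.Finite ℤ_[l] (TateMod A l (Over.mk (𝟙 (Spec (CommRingCat.of k)))))] :
    ‖(((nu f : ℕ) : ℚ) : ℚ_[l])‖ =
      ‖((LinearMap.det (tateMapₗ (l := l) (T := (Over.mk (𝟙 (Spec (CommRingCat.of k))))) f) : ℤ_[l]) : ℚ_[l])‖ := by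
  classical
  let b := Module.Free.chooseBasis ℤ_[l] (TateMod A l (Over.mk (𝟙 (Spec (CommRingCat.of k)))))
  by_cases hf : IsFinite f.left
  · have h1 := TateDet.padicValNat_eq l hl A A r hA hA f hf b b (pt η[A])
    rw [finrank_eq_nu r hA hA f] at h1
    have h0 : nu f ≠ 0 := (nu_pos r hA hA f).ne'
    have hinj := (KerFinite.isFinite_iff_injective l hl A A f).mp hf
    have hd0 : (LinearMap.toMatrix b b (tateMapₗ (l := l) (T := (Over.mk (𝟙 (Spec (CommRingCat.of k))))) f)).det ≠ 0 := by
      rw [LinearMap.det_toMatrix, Ne, LinearMap.det_eq_zero_iff_ker_ne_bot, not_not, LinearMap.ker_eq_bot]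
      exact hinj
    rw [LinearMap.det_toMatrix] at h1 hd0
    rw [Padic.norm_eq_zpow_neg_valuation (by exact_mod_cast h0),
      Padic.norm_eq_zpow_neg_valuation (by rw [Ne, PadicInt.coe_eq_zero]; exact hd0), PadicInt.valuation_coe, ← h1,
      Rat.cast_natCast, Padic.valuation_natCast]
  · rw [nu_of_not_isFinite f hf]
    have h2 : ¬ Function.Injective (tateMapₗ (l := l) (T := (Over.mk (𝟙 (Spec (CommRingCat.of k))))) f) :=
      fun h => hf ((KerFinite.isFinite_iff_injective l hl A A f).mpr h)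
    have h3 : LinearMap.det (tateMapₗ (l := l) (T := (Over.mk (𝟙 (Spec (CommRingCat.of k))))) f) = 0 := by
      rw [LinearMap.det_eq_zero_iff_ker_ne_bot, Ne, LinearMap.ker_eq_bot]
      exact h2
    rw [h3]
    simp

end

end K519.Nu
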