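import Mathlib.NumberTheory.Padics.RingHoms
import Mathlib.LinearAlgebra.FreeModule.Finite.Quotient
import Mathlib.LinearAlgebra.Determinant
import Mathlib.LinearAlgebra.Matrix.Basis

/-!
# The index of the image of an injective map of `ℤ_[l]`-lattices

`card_quotient_range`: `#(W / φ(V)) = l ^ v(det φ)`; `pow_smul_mem_range`: `l ^ v(det φ)` kills the cokernel.
-/

set_option autoImplicit false

open Module

namespace K519.PadicDet

variable {l : ℕ} [hl : Fact l.Prime]

theorem valuation_unit (u : ℤ_[l]) (hu : IsUnit u) : u.valuation = 0 := by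
  obtain ⟨w, hw⟩ := hu.exists_right_inv
  have hu0 : u ≠ 0 := hu.ne_zero
  have hw0 : w ≠ 0 := by rintro rfl; simp at hw
  have := PadicInt.valuation_mul hu0 hw0
  rw [hw, PadicInt.valuation_one] at this
  omega

theorem card_quotient_span (a : ℤ_[l]) (ha : a ≠ 0) :
    Nat.card (ℤ_[l] ⧸ Ideal.span ({a} : Set ℤ_[l])) = l ^ a.valuation := by
  have h1 : Ideal.span ({a} : Set ℤ_[l]) = Ideal.span {(l : ℤ_[l]) ^ a.valuation} := by
    rw [Ideal.span_singleton_eq_span_singleton]
    have h := PadicInt.unitCoeff_spec ha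
    exact Associated.symm ⟨PadicInt.unitCoeff ha, by rw [mul_comm]; exact h.symm⟩
  rw [h1, ← PadicInt.ker_toZModPow]
  have h2 := RingHom.quotientKerEquivOfSurjective
    (ZMod.ringHom_surjective (PadicInt.toZModPow (p := l) a.valuation))
  rw [Nat.card_congr h2.toEquiv, Nat.card_zmod]

theorem valuation_prod {ι : Type*} (s : Finset ι) (a : ι → ℤ_[l]) (ha : ∀ i ∈ s, a i ≠ 0) :
    (∏ i ∈ s, a i).valuation = ∑ i ∈ s, (a i).valuation := by
  classical
  induction s using Finset.induction_on with
  | empty => simp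
  | insert i s hi ih =>
    rw [Finset.prod_insert hi, Finset.sum_insert hi,
      PadicInt.valuation_mul (ha i (Finset.mem_insert_self _ _))
        (Finset.prod_ne_zero_iff.mpr fun j hj => ha j (Finset.mem_insert_of_mem hj)),
      ih fun j hj => ha j (Finset.mem_insert_of_mem hj)]

variable {ι : Type*} [Fintype ι] [DecidableEq ι] {V W : Type*} [AddCommGroup V] [Module ℤ_[l] V]
  [AddCommGroup W] [Module ℤ_[l] W]

theorem card_quotient_range (bV : Basis ι ℤ_[l] V) (bW : Basis ι ℤ_[l] W) (φ : V →ₗ[ℤ_[l]] W)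
    (hφ : Function.Injective φ) :
    Nat.card (W ⧸ LinearMap.range φ) = l ^ (LinearMap.toMatrix bV bW φ).det.valuation := by
  let N := LinearMap.range φ
  have hrank : finrank ℤ_[l] N = finrank ℤ_[l] W := by
    rw [LinearMap.finrank_range_of_inj hφ, finrank_eq_card_basis bV, finrank_eq_card_basis bW]
  let e : V ≃ₗ[ℤ_[l]] N := LinearEquiv.ofInjective φ hφ
  let top := Submodule.smithNormalFormTopBasis bW hrank
  let bot := Submodule.smithNormalFormBotBasis bW hrank
  let a := Submodule.smithNormalFormCoeffs bW hrank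
  have hbot : ∀ i, (bot i : W) = a i • top i := Submodule.smithNormalFormBotBasis_def bW hrank
  have ha : ∀ i, a i ≠ 0 := Submodule.smithNormalFormCoeffs_ne_zero bW hrank
  let bV' : Basis ι ℤ_[l] V := bot.map e.symm
  have hφ' : ∀ i, φ (bV' i) = a i • top i := by
    intro i
    rw [← hbot]
    change φ (e.symm (bot i)) = _
    have h1 : (e (e.symm (bot i)) : W) = φ (e.symm (bot i)) := LinearEquiv.ofInjective_apply φ _
    rw [← h1, LinearEquiv.apply_symm_apply]
  have hmat : LinearMap.toMatrix bV' top φ = Matrix.diagonal a := by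
    ext i j
    rw [LinearMap.toMatrix_apply, hφ', map_smul, Finsupp.smul_apply, Basis.repr_self,
      Finsupp.single_apply, Matrix.diagonal_apply, smul_eq_mul, mul_ite, mul_one, mul_zero]
    by_cases h : j = i
    · subst h; simp
    · simp [h, Ne.symm h]
  have hdet : (LinearMap.toMatrix bV bW φ).det =
      (bW.toMatrix top).det * (∏ i, a i) * (bV'.toMatrix bV).det := by
    rw [← basis_toMatrix_mul_linearMap_toMatrix_mul_basis_toMatrix (b := bV) (b' := bV') (c := bW) (c' := top),
      Matrix.det_mul, Matrix.det_mul, hmat, Matrix.det_diagonal]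
  have hprod : ∏ i, a i ≠ 0 := Finset.prod_ne_zero_iff.mpr fun i _ => ha i
  have hu1 : IsUnit (bW.toMatrix top).det := by
    have := bW.invertibleToMatrix top
    exact Matrix.isUnit_det_of_invertible _
  have hu2 : IsUnit (bV'.toMatrix bV).det := by
    have := bV'.invertibleToMatrix bV
    exact Matrix.isUnit_det_of_invertible _
  rw [hdet, PadicInt.valuation_mul (mul_ne_zero hu1.ne_zero hprod) hu2.ne_zero,
    PadicInt.valuation_mul hu1.ne_zero hprod, valuation_unit _ hu1, valuation_unit _ hu2, zero_add, add_zero,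
    valuation_prod _ _ (fun i _ => ha i)]
  have h2 := (Submodule.quotientEquivPiSpan N bW hrank).toEquiv
  rw [Nat.card_congr h2, Nat.card_pi, ← Finset.prod_pow_eq_pow_sum]
  exact Finset.prod_congr rfl fun i _ => card_quotient_span (a i) (ha i)

/-- `l ^ v(det φ)` kills the cokernel. -/
theorem pow_smul_mem_range (bV : Basis ι ℤ_[l] V) (bW : Basis ι ℤ_[l] W) (φ : V →ₗ[ℤ_[l]] W)
    (hφ : Function.Injective φ) (n : ℕ) (hn : (LinearMap.toMatrix bV bW φ).det.valuation ≤ n) (w : W) :
    ((l : ℤ_[l]) ^ n) • w ∈ LinearMap.range φ := by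
  have h1 : ((l ^ n : ℕ) : ℤ_[l]) • w ∈ LinearMap.range φ := by
    have hc := card_quotient_range bV bW φ hφ
    rw [← Submodule.Quotient.mk_eq_zero, Submodule.Quotient.mk_smul, Nat.cast_smul_eq_nsmul]
    obtain ⟨m, rfl⟩ := Nat.exists_eq_add_of_le hn
    rw [pow_add, mul_comm, mul_nsmul, ← hc]
    exact card_nsmul_eq_zero' 
  simpa using h1

end K519.PadicDet
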