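import Groth.Agent.Sga3B.SsKer
import Groth.Agent.Sga3B.RedIdComp
import Groth.Agent.Sga3C.GrpIrr
import Groth.Agent.Grpsch.KerMul
import Groth.Agent.S3037
import Groth.Agent.Sga7.H5.AVZero

/-!
# The reduced identity component of the kernel of a homomorphism of abelian varieties

`exists_subAV`: over an algebraically closed field, a homomorphism `α : A ⟶ B` from an abelian variety which is
not finite kills an abelian subvariety of positive dimension.
-/

set_option autoImplicit false

universe u

open CategoryTheory MonoidalCategory CartesianMonoidalCategory MonObj GrpObj AlgebraicGeometry Limits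

namespace K519.SubAV

open Groth.Agent Books.AlgPts Books.AlgPtsGrp

variable {K : Type u} [Field K] [IsAlgClosed K]

/-- A smooth connected group scheme over an algebraically closed field is geometrically integral. -/
theorem geometricallyIntegral (A : Over (Spec (CommRingCat.of K))) [GrpObj A] [Smooth A.hom]
    [ConnectedSpace A.left] : GeometricallyIntegral A.hom := by
  have h1 : GrpObj (Over.mk A.hom) := inferInstanceAs (GrpObj A)
  have : GeometricallyIrreducible A.hom :=
    Sga3C.GrpIrr.geometricallyIrreducible_of_connectedSpace A.hom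
  have : IsReduced A.left := Books.AlgPtsSmooth.isReduced_of_smooth A
  have : GeometricallyReduced A.hom := Sga3B.RedIdComp.geometricallyReduced_of_isReduced A.hom
  exact GeometricallyIntegral.of_geometricallyReduced_of_geometricallyIrreducible A.hom

/-- The reduced identity component of the kernel of a homomorphism. -/
theorem exists_redIdKer {A B : Over (Spec (CommRingCat.of K))} [GrpObj A] [GrpObj B] [IsProper A.hom]
    [IsSeparated B.hom] [LocallyOfFiniteType B.hom] (α : A ⟶ B) [IsMonHom α] :
    ∃ (N : Over (Spec (CommRingCat.of K))) (_ : GrpObj N) (i : N ⟶ A)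
      (U : Over (Spec (CommRingCat.of K))) (_ : GrpObj U) (u : U ⟶ N),
      IsMonHom i ∧ IsClosedImmersion i.left ∧ IsPullback i (toUnit N) α η[B] ∧
      IsMonHom u ∧ IsClosedImmersion u.left ∧ IsProper U.hom ∧ Smooth U.hom ∧ GeometricallyIntegral U.hom ∧
      Set.range u.left = connectedComponent (pt η[N]) := by
  obtain ⟨N, hN, i, hi, hpb⟩ := Grpsch.KerMul.exists_kernel α
  have hη : IsClosedImmersion (η[B] : 𝟙_ (Over (Spec (CommRingCat.of K))) ⟶ B).left := by
    have h2 : IsClosedImmersion ((η[B] : 𝟙_ (Over (Spec (CommRingCat.of K))) ⟶ B).left ≫ B.hom) := by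
      rw [Over.w]
      change IsClosedImmersion (𝟙 (Spec (CommRingCat.of K)))
      infer_instance
    exact IsClosedImmersion.of_comp _ B.hom
  have hcl : IsClosedImmersion i.left :=
    MorphismProperty.of_isPullback (P := @IsClosedImmersion) (hpb.map (Over.forget _)).flip hη
  have hNp : IsProper N.hom := by rw [← Over.w i]; infer_instance
  obtain ⟨U, hU, u, hu1, hu2, hu3, hu4, hu5⟩ := Sga3B.RedIdComp.exists_redIdComp N
  have hUp : IsProper U.hom := by rw [← Over.w u]; infer_instance
  exact ⟨N, hN, i, U, hU, u, hi, hcl, hpb, hu1, hu2, hUp, hu3, geometricallyIntegral U, hu5⟩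

/-- A homomorphism from an abelian variety (over an algebraically closed field) which is not finite kills an
abelian subvariety which is not trivial. -/
theorem exists_subAV {A B : Over (Spec (CommRingCat.of K))} [GrpObj A] [GrpObj B] [IsProper A.hom]
    [IsSeparated B.hom] [LocallyOfFiniteType B.hom] (α : A ⟶ B) [IsMonHom α] (h : ¬ IsFinite α.left) :
    ∃ (U : Over (Spec (CommRingCat.of K))) (_ : GrpObj U) (u : U ⟶ A),
      IsMonHom u ∧ IsClosedImmersion u.left ∧ Mono u ∧ IsProper U.hom ∧ Smooth U.hom ∧
      GeometricallyIntegral U.hom ∧ u ≫ α = 1 ∧ topologicalKrullDim U.left ≠ 0 := by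
  obtain ⟨N, hN, i, U, hU, u, hi, hcl, hpb, hu1, hu2, hUp, hUs, hUg, hr⟩ := exists_redIdKer α
  have h1 : IsClosedImmersion (u ≫ i).left := by
    rw [Over.comp_left]; infer_instance
  refine ⟨U, hU, u ≫ i, inferInstance, h1, mono_of_isClosedImmersion _, hUp, hUs, hUg, ?_, ?_⟩
  · rw [Category.assoc, hpb.w, ← Category.assoc, Hom.one_def]
    congr 1
    exact toUnit_unique _ _
  · intro hd
    have hiso := Sga7.H5.AVZero.isIso_hom U hd
    have hNlft : LocallyOfFiniteType N.hom := by rw [← Over.w i]; infer_instance
    have h2 : DiscreteTopology N.left := Sga3B.SsKer.discreteTopology_of_redIdComp u hr hiso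
    apply h
    have hqc : QuasiCompact α.left := by
      have h3 : QuasiCompact (α.left ≫ B.hom) := by rw [Over.w]; infer_instance
      exact QuasiCompact.of_comp _ B.hom
    rw [S3037.result K A B α]
    have hpb' : IsPullback i.left N.hom α.left η[B].left := hpb.map (Over.forget _)
    exact hpb'.isoPullback.inv.homeomorph.isEmbedding.discreteTopology

end K519.SubAV
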