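import Groth.Agent.AbVar.K519.KerFinite
import Groth.Agent.AbVar.K519.DegKer
import Groth.Agent.AbVar.K519.GrpCount
import Groth.Agent.AbVar.K519.PadicDet

/-!
# The degree of an isogeny and the determinant on the Tate module
-/

set_option autoImplicit false
set_option linter.unusedSectionVars false

universe u

open CategoryTheory MonoidalCategory CartesianMonoidalCategory MonObj GrpObj AlgebraicGeometry Limits

namespace K519.TateDet

open Groth.Agent Books.AlgPts Books.AlgPtsGrp AbDual

section general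

variable {S : Scheme.{u}} {A B : Over S} [GrpObj A] [IsCommMonObj A] [GrpObj B] [IsCommMonObj B] (T : Over S)

/-- Postcomposition with a homomorphism, on points. -/
noncomputable def postMul (α : A ⟶ B) [IsMonHom α] : (T ⟶ A) →* (T ⟶ B) where
  toFun x := x ≫ α
  map_one' := MonObj.one_comp α
  map_mul' x y := MonObj.mul_comp x y α

/-- Postcomposition with a homomorphism, on points written additively. -/
noncomputable def postAdd (α : A ⟶ B) [IsMonHom α] : Additive (T ⟶ A) →+ Additive (T ⟶ B) :=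
  MonoidHom.toAdditive (postMul T α)

theorem postAdd_apply (α : A ⟶ B) [IsMonHom α] (x : Additive (T ⟶ A)) :
    postAdd T α x = Additive.ofMul (x.toMul ≫ α) := rfl

/-- The torsion points, additively. -/
noncomputable def tors (A : Over S) [GrpObj A] [IsCommMonObj A] (N : ℕ) : AddSubgroup (Additive (T ⟶ A)) :=
  (nsmulAddMonoidHom (α := Additive (T ⟶ A)) N).ker

theorem mem_tors {N : ℕ} (x : Additive (T ⟶ A)) : x ∈ tors T A N ↔ N • x = 0 := Iff.rfl

theorem card_tors (N : ℕ) : Nat.card (tors T A N) = Nat.card {x : T ⟶ A // x ^ N = 1} :=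
  Nat.card_congr ⟨fun x => ⟨x.1.toMul, x.2⟩, fun x => ⟨Additive.ofMul x.1, x.2⟩, fun _ => rfl, fun _ => rfl⟩

theorem card_ker_inf_tors (α : A ⟶ B) [IsMonHom α] (N : ℕ) :
    Nat.card ((postAdd T α).ker ⊓ tors T A N : AddSubgroup (Additive (T ⟶ A))) =
      Nat.card (powMonoidHom N : (postMul T α).ker →* (postMul T α).ker).ker :=
  Nat.card_congr ⟨fun x => ⟨⟨x.1.toMul, x.2.1⟩, Subtype.ext x.2.2⟩,
    fun x => ⟨Additive.ofMul x.1.1, x.1.2, congrArg Subtype.val x.2⟩, fun _ => rfl, fun _ => rfl⟩

variable {T} {l : ℕ} [hl : Fact l.Prime]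

theorem range_component (hdiv : ∀ y : T ⟶ A, ∃ x : T ⟶ A, x ^ l = y) (n : ℕ) :
    (TateMod.component A l T n).range = tors T A (l ^ n) := by
  apply le_antisymm
  · rintro _ ⟨x, rfl⟩
    exact x.torsion n
  · intro a ha
    obtain ⟨x, hx⟩ := Tate.exists_apply_eq hdiv n a.toMul ha
    exact ⟨x, hx⟩

theorem index_range {J : Type*} [Fintype J] [DecidableEq J] (α : A ⟶ B) [IsMonHom α]
    (bA : Module.Basis J ℤ_[l] (TateMod A l T)) (bB : Module.Basis J ℤ_[l] (TateMod B l T))
    (hinj : Function.Injective (tateMapₗ (l := l) (T := T) α))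
    (hdivA : ∀ y : T ⟶ A, ∃ x : T ⟶ A, x ^ l = y) (hdivB : ∀ y : T ⟶ B, ∃ x : T ⟶ B, x ^ l = y)
    (n : ℕ) (hn : (LinearMap.toMatrix bA bB (tateMapₗ α)).det.valuation ≤ n)
    (hcard : Nat.card (tors T A (l ^ n)) = Nat.card (tors T B (l ^ n))) (h0 : Nat.card (tors T B (l ^ n)) ≠ 0) :
    l ^ (LinearMap.toMatrix bA bB (tateMapₗ α)).det.valuation =
      Nat.card ((postAdd T α).ker ⊓ tors T A (l ^ n) : AddSubgroup (Additive (T ⟶ A))) := by
  have h1 := PadicDet.card_quotient_range bA bB (tateMapₗ α) hinj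
  rw [← h1]
  have h2 := GrpCount.index_eq_card (postAdd T α) (tors T A (l ^ n)) (tors T B (l ^ n)) hcard h0
    (TateMod.component B l T n) (range_component hdivB n) (LinearMap.range (tateMapₗ (l := l) (T := T) α)).toAddSubgroup
    ?_ ?_
  · rw [← h2]; rfl
  · intro w hw
    obtain ⟨y, hy⟩ := Tate.exists_eq_pow_nsmul w n hw
    rw [hy, ← Tate.pow_smul]
    exact PadicDet.pow_smul_mem_range bA bB (tateMapₗ α) hinj n hn y
  · apply le_antisymm
    · rintro _ ⟨_, ⟨x, rfl⟩, rfl⟩
      exact ⟨TateMod.component A l T n x, x.torsion n, rfl⟩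
    · rintro _ ⟨a, ha, rfl⟩
      have h3 : a ∈ (TateMod.component A l T n).range := by rw [range_component hdivA n]; exact ha
      obtain ⟨x, rfl⟩ := h3
      exact ⟨tateMapₗ α x, ⟨x, rfl⟩, rfl⟩

end general

variable {k : Type u} [Field k] [IsAlgClosed k]

/-- Basic facts on isogenies of abelian varieties of the same dimension. -/
theorem surj_flat {A B : Over (Spec (CommRingCat.of k))}
    [GrpObj A] [IsProper A.hom] [GeometricallyIntegral A.hom]
    [GrpObj B] [IsProper B.hom] [GeometricallyIntegral B.hom]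
    (r : ℕ) (hrA : topologicalKrullDim A.left = r) (hrB : topologicalKrullDim B.left = r)
    (α : A ⟶ B) [IsMonHom α] [IsFinite α.left] :
    Surjective α.left ∧ Flat α.left ∧ LocallyOfFinitePresentation α.left := by
  have hA : IsIntegral A.left := GeometricallyIntegral.isIntegral_of_subsingleton A.hom
  have hB : IsIntegral B.left := GeometricallyIntegral.isIntegral_of_subsingleton B.hom
  have hs : Surjective α.left := DegKer.surjective_of_isFinite α.left r hrA hrB
  have hf : Flat α.left := Sga7.H756.RevIsog.flat_left k α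
  refine ⟨hs, hf, ?_⟩
  have : IsLocallyNoetherian B.left := LocallyOfFiniteType.isLocallyNoetherian (Y := Spec (CommRingCat.of k)) B.hom
  infer_instance

/-- The statement of S15672. -/
theorem padicValNat_eq (l : ℕ) [hlp : Fact l.Prime] (hl : (l : k) ≠ 0) (A B : Over (Spec (CommRingCat.of k)))
    [GrpObj A] [IsCommMonObj A] [IsProper A.hom] [GeometricallyIntegral A.hom]
    [GrpObj B] [IsCommMonObj B] [IsProper B.hom] [GeometricallyIntegral B.hom]
    (r : ℕ) (hrA : topologicalKrullDim A.left = r) (hrB : topologicalKrullDim B.left = r)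
    (α : A ⟶ B) [IsMonHom α] (hα : IsFinite α.left) {J : Type*} [Fintype J] [DecidableEq J]
    (bA : Module.Basis J ℤ_[l] (AbDual.TateMod A l (Over.mk (𝟙 (Spec (CommRingCat.of k))))))
    (bB : Module.Basis J ℤ_[l] (AbDual.TateMod B l (Over.mk (𝟙 (Spec (CommRingCat.of k)))))) (b : B.left) :
    padicValNat l (Scheme.Hom.finrank α.left b) =
      PadicInt.valuation (Matrix.det (LinearMap.toMatrix bA bB
        (AbDual.tateMapₗ (l := l) (T := (Over.mk (𝟙 (Spec (CommRingCat.of k))))) α))) := by
  obtain ⟨hs, hf, hfp⟩ := surj_flat r hrA hrB α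
  have hB : IsIntegral B.left := GeometricallyIntegral.isIntegral_of_subsingleton B.hom
  have hinj := (KerFinite.isFinite_iff_injective l hl A B α).mp hα
  have hl1 : 1 ≤ l := hlp.out.one_lt.le
  obtain ⟨h1, h2⟩ := DegKer.padicValNat_finrank l hl α b
  set v := PadicInt.valuation (Matrix.det (LinearMap.toMatrix bA bB
        (AbDual.tateMapₗ (l := l) (T := (Over.mk (𝟙 (Spec (CommRingCat.of k))))) α))) with hv
  set F := (postMul (Over.mk (𝟙 (Spec (CommRingCat.of k)))) α).ker with hF
  have hFc : Nat.card F = Nat.card {x : 𝟙_ (Over (Spec (CommRingCat.of k))) ⟶ A // x ≫ α = 1} := rfl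
  have hFf : Finite F := Nat.finite_of_card_ne_zero (by rw [hFc]; exact h2)
  rw [h1, ← hFc]
  set a := padicValNat l (Nat.card F) with ha
  let n := max v a
  have hln : (((l ^ n : ℕ)) : k) ≠ 0 := by rw [Nat.cast_pow]; exact pow_ne_zero _ hl
  have hcA := Etcore.AbTors.card_torsion A r hrA (l ^ n) hln
  have hcB := Etcore.AbTors.card_torsion B r hrB (l ^ n) hln
  have h3 := index_range α bA bB hinj (KerFinite.exists_pow_eq A l hl1) (KerFinite.exists_pow_eq B l hl1) n
    (le_max_left _ _) (by rw [card_tors, card_tors, hcA, hcB])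
    (by rw [card_tors, hcB]; exact pow_ne_zero _ (pow_ne_zero _ hlp.out.ne_zero))
  rw [card_ker_inf_tors, GrpCount.card_torsion_eq l n (le_max_right _ _)] at h3
  exact (Nat.pow_right_injective hlp.out.two_le h3).symm

end K519.TateDet
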